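import Cfsg.Agent.Lib.Invol.ProperCore.Basic
import Cfsg.Agent.Lib.Invol.Core2.SplitInputHolds
import Cfsg.Agent.Lib.Invol.Core2.RankTwoPSL
import Cfsg.Agent.Lib.Invol.AbelTwo.JFive
import Cfsg.Agent.S1169

/-!
# A proper 2-generated core, two central involutions, all bad

All involutions of `S` are then central, so with `1` they form an abelian strongly closed subgroup: by Goldschmidt's
theorem there is a strongly embedded subgroup or `S` is abelian. In the latter case Walter's theorem leaves the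
shape `⟨t⟩ × E` with `L₂(q)` normal in `E`, and for `q > 5` this centraliser lies in the core, since every
involution of `L₂(q) ∩ M` fixes a single coset there.
-/

set_option autoImplicit false
set_option linter.unusedSectionVars false
set_option linter.style.haveILetI false

namespace Cfsg.Agent.Invol.ProperCore

open Subgroup Cfsg.Agent.Invol.Core2

universe u

variable {G : Type u} [Group G] [Finite G]

/-- An abelian Sylow subgroup of order eight with centralisers of `JR` shape. -/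
theorem good_or_five [IsSimpleGroup G] {M : Subgroup G} (h : AX M ⊥) (S : Sylow 2 G) (hSM : (S : Subgroup G) ≤ M)
    (hS : IsMulCommutative (S : Subgroup G)) (h8 : Nat.card (S : Subgroup G) = 8) {t : G}
    (ht : t ∈ (S : Subgroup G)) (ht2 : orderOf t = 2) (hJ : AbelTwo.JRShape t) :
    centralizer ({t} : Set G) ≤ M ∨ Cfsg.Spor.IsoJ1 G := by
  haveI : Fact (Nat.Prime 2) := ⟨Nat.prime_two⟩
  obtain ⟨-, E, hE, F, i1, i2, hodd, hF3, N, hN, ⟨f⟩, hcN⟩ := hJ
  haveI := hN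
  by_cases h5 : Fintype.card F = 5
  · exact Or.inr (AbelTwo.isoJ1_of_five S hS h8 ht2 hE h5 N ⟨f⟩ hcN)
  refine Or.inl ?_
  set C := centralizer ({t} : Set G) with hC
  let g : ↥N →* G := E.subtype.comp N.subtype
  have hg : Function.Injective g := Subtype.val_injective.comp Subtype.val_injective
  set N₀ := g.range with hN₀
  have hN₀C : N₀ ≤ C := by
    rintro _ ⟨n, rfl⟩
    exact hE.2.1 (n : ↥E).2
  have htN₀ : t ∉ N₀ := by
    rintro ⟨n, hn⟩
    have h1 : t ∈ zpowers t ⊓ E := ⟨mem_zpowers t, hn ▸ (n : ↥E).2⟩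
    rw [hE.2.2.2.1, mem_bot] at h1
    exact ne_one_of_orderOf_two ht2 h1
  have hnorm : ∀ c ∈ C, ∀ x ∈ N₀, c * x * c⁻¹ ∈ N₀ := by
    have h1 : zpowers t ⊔ E ≤ normalizer (N₀ : Set G) := by
      refine sup_le (zpowers_le.2 ?_) fun e he => mem_normalizer_fintype ?_
      · refine mem_normalizer_fintype fun x hx => ?_
        have hx' : Commute x t := mem_C.1 (hN₀C hx)
        show t * x * t⁻¹ ∈ N₀
        rw [← hx'.eq, mul_inv_cancel_right]
        exact hx
      · rintro _ ⟨n, rfl⟩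
        exact ⟨⟨_, hN.conj_mem (n : ↥E) n.2 ⟨e, he⟩⟩, rfl⟩
    rw [hE.2.2.2.2] at h1
    exact fun c hc x hx => (mem_normalizer_iff.1 (h1 hc) x).1 hx
  obtain ⟨P⟩ : Nonempty (Sylow 2 ↥N) := inferInstance
  have hSC : (S : Subgroup G) ≤ C := fun s hs =>
    mem_centralizer_singleton_iff.2 (congrArg Subtype.val (hS.is_comm.comm ⟨s, hs⟩ ⟨t, ht⟩))
  have hPC : ∀ x ∈ (P : Subgroup ↥N).map g, x ∈ C := fun x hx => hN₀C (map_le_range g _ hx)
  obtain ⟨d, hd⟩ := exists_conj_subset_sylow ((P.isPGroup'.map g).comap_subtype (K := C)) (S.subtype hSC)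
  let g' : ↥N →* G := (MulAut.conj (d : G)).toMonoidHom.comp g
  have hg' : Function.Injective g' := fun a b e => hg ((MulAut.conj (d : G)).injective e)
  have hg'N : ∀ n, g' n ∈ N₀ := fun n => hnorm d d.2 _ ⟨n, rfl⟩
  let X : Subgroup (Matrix.ProjectiveSpecialLinearGroup (Fin 2) F) := (M.comap g').map f.toMonoidHom
  have hmemX : ∀ r, r ∈ X ↔ g' (f.symm r) ∈ M := fun r => by
    refine ⟨fun ⟨n, hn, e⟩ => ?_, fun hr => ⟨f.symm r, hr, f.apply_symm_apply r⟩⟩
    rw [← e, MulEquiv.coe_toMonoidHom, f.symm_apply_apply]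
    exact hn
  let PF := P.mapSurjective (f := f.toMonoidHom) f.surjective
  have hPX : (PF : Subgroup (Matrix.ProjectiveSpecialLinearGroup (Fin 2) F)) ≤ X := by
    rintro _ ⟨n, hn, rfl⟩
    exact ⟨n, hSM (hd ⟨g n, hPC _ ⟨n, hn, rfl⟩⟩ ⟨n, hn, rfl⟩), rfl⟩
  have hfix : ∀ r ∈ X, orderOf r = 2 → ∀ a, a * r * a⁻¹ ∈ X → a ∈ X := by
    intro r hr hr2 a ha
    rw [hmemX] at hr ha ⊢
    rw [map_mul, map_mul, map_mul, map_mul, map_inv, map_inv] at ha
    exact h.bad_fix ht2 (hSM ht) (by rw [orderOf_injective g' hg', MulEquiv.orderOf_eq, hr2]) hr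
      (fun e => htN₀ (e ▸ hg'N _)) (mem_C.1 (hN₀C (hg'N _))).eq (mem_C.1 (hN₀C (hg'N _))).eq ha
  have htop : X = ⊤ := by
    by_contra hne
    exact h5 (RankTwo.card_of_one_fixed hodd hne PF hPX hfix).1
  -- hence the normal subgroup lies in `M`
  have hN₀M : N₀ ≤ M := by
    rintro _ ⟨n, rfl⟩
    obtain ⟨m, hm⟩ := hnorm ((d : G)⁻¹) (inv_mem d.2) _ ⟨n, rfl⟩
    have h1 : g' m ∈ M := by
      have := (hmemX (f m)).1 (htop ▸ mem_top _)
      rwa [f.symm_apply_apply] at this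
    rwa [show g' m = g n by show (d : G) * g m * (d : G)⁻¹ = g n; rw [hm]; group] at h1
  obtain ⟨r, hr2⟩ := exists_prime_orderOf_dvd_card' (G := ↥N) 2 (by
    rw [Nat.card_congr f.toEquiv]
    have h2 := GW.card_PSLTwo (F := F) hodd
    obtain ⟨j, hj⟩ := hodd
    rw [hj, show 2 * j + 1 - 1 = 2 * j from Nat.add_sub_cancel _ _] at h2
    exact ⟨(2 * j + 1) * (j * (j + 1)), by linarith [h2]⟩)
  intro c hc
  exact h.bad_fix ht2 (hSM ht) (by rw [orderOf_injective g hg, hr2]) (hN₀M ⟨r, rfl⟩)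
    (fun e => htN₀ (e ▸ ⟨r, rfl⟩)) (mem_C.1 (hN₀C ⟨r, rfl⟩)).eq (mem_C.1 hc).eq (hN₀M (hnorm c hc _ ⟨r, rfl⟩))

/-- Two central involutions and all bad, or an abelian Sylow subgroup. -/
theorem listed_of_two_central [IsSimpleGroup G] (hna : ¬ IsMulCommutative G) {M : Subgroup G} (h : AX M ⊥)
    (S : Sylow 2 G) (hSM : (S : Subgroup G) ≤ M)
    (hbad : ∀ a ∈ (S : Subgroup G), orderOf a = 2 → (∀ s ∈ (S : Subgroup G), Commute s a) →
      ∃ c : G, Commute c a ∧ c ∉ M)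
    {u f y : G} (hu : u ∈ (S : Subgroup G)) (hu2 : orderOf u = 2) (huc : ∀ s ∈ (S : Subgroup G), Commute s u)
    (hf : f ∈ (S : Subgroup G)) (hf2 : orderOf f = 2) (hfc : ∀ s ∈ (S : Subgroup G), Commute s f) (hfu : f ≠ u)
    (hy : y ∈ (S : Subgroup G)) (hy2 : orderOf y = 2) (hyu : y ≠ u) (hyf : y ≠ f) (hyfu : y ≠ f * u) :
    Listed G := by
  haveI : Fact (Nat.Prime 2) := ⟨Nat.prime_two⟩
  obtain ⟨hcen, -⟩ := splitInput G M ⊥ S hSM h
    (fun a _ _ g _ w hw => by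
      rw [bot_inf_eq, mem_bot] at hw ⊢
      simp [hw])
    hbad u f hu hu2 huc hf hf2 hfc hfu ⟨y, hy, hy2, hyu, hyf, hyfu⟩
  have hsq : ∀ x ∈ (S : Subgroup G), x * x = 1 → ∀ s ∈ (S : Subgroup G), Commute s x := by
    intro x hx hxx s hs
    by_cases h1 : x = 1
    · exact h1 ▸ Commute.one_right s
    · exact hcen x hx (orderOf_eq_prime (by rw [pow_two, hxx]) h1) s hs
  let A : Subgroup G :=
    { carrier := {x | x ∈ (S : Subgroup G) ∧ x * x = 1}
      one_mem' := ⟨one_mem _, one_mul 1⟩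
      mul_mem' := fun {a b} ha hb => ⟨mul_mem ha.1 hb.1, by
        calc a * b * (a * b) = a * (b * a) * b := by group
          _ = a * a * (b * b) := by rw [← (hsq b hb.1 hb.2 a ha.1).eq]; group
          _ = 1 := by rw [ha.2, hb.2, one_mul]⟩
      inv_mem' := fun {a} ha => ⟨inv_mem ha.1, by rw [← mul_inv_rev, ha.2, inv_one]⟩ }
  have hA : A ≠ ⊥ := fun e => ne_one_of_orderOf_two hu2 (mem_bot.1 (e ▸
    (⟨hu, mul_self_of_orderOf_two hu2⟩ : u ∈ A)))
  have hAc : IsMulCommutative A := ⟨⟨fun a b => Subtype.ext (hsq b b.2.1 b.2.2 a a.2.1).eq⟩⟩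
  have hsc : Cfsg.IsStronglyClosed A (S : Subgroup G) := ⟨fun a ha => ha.1, fun x hx c hc => ⟨hc, by
    rw [show c * x * c⁻¹ * (c * x * c⁻¹) = c * (x * x) * c⁻¹ by group, hx.2, mul_one, mul_inv_cancel]⟩⟩
  rcases S1169.result S A hA hAc hsc with hS | ⟨H, hH⟩
  swap
  · exact listed_of_strongly_embedded hna hH
  rcases AbelTwo.walter G hna (even_card hna) S hS with ⟨H, hH⟩ | ⟨F, i1, i2, -, h5, -, he⟩ | ⟨h8, -, hJ⟩
  · exact listed_of_strongly_embedded hna hH
  · exact Or.inl ⟨F, i1, i2, by omega, he⟩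
  · rcases good_or_five h S hSM hS h8 hu hu2 (hJ u hu (ne_one_of_orderOf_two hu2)) with hgood | hj
    · exact listed_of_good hna h S hu hu2 huc hgood hf hf2 hfu
    · exact Or.inr (Or.inr (Or.inr (Or.inr hj)))

end Cfsg.Agent.Invol.ProperCore
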