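import Cfsg.Agent.Lib.Invol.ProperCore.RankTwo
import Cfsg.Agent.Lib.Invol.ProperCore.CentralCase
import Cfsg.Agent.Lib.Invol.Core2.TwistTransfer

/-!
# Simple groups with a proper 2-generated core

The assembly: two-rank two, or an elementary subgroup of order eight, and then a good central involution, two
central involutions, or a single bad one.
-/

set_option autoImplicit false
set_option linter.unusedSectionVars false
set_option linter.style.haveILetI false

namespace Cfsg.Agent.Invol.ProperCore

open Subgroup Cfsg.Agent.Invol.Core2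

universe u

/-- The case of a single central involution in rank at least three, with centraliser outside the core. -/
def OneCentralStmt : Prop :=
  ∀ (G : Type u) [Group G] [Finite G] [IsSimpleGroup G], ¬ IsMulCommutative G →
    ∀ (M : Subgroup G) (S : Sylow 2 G) (z : G), TwistPre M ⊥ S z → Listed G

variable {G : Type u} [Group G] [Finite G]

theorem not_prankLE_two_of_eight {S : Sylow 2 G} (h8 : HasEight S) : ¬ Cfsg.PRankLE 2 2 (S : Subgroup G) := by
  intro h
  obtain ⟨E, hES, hE, hc⟩ := h8
  have h1 := h (E.subgroupOf (S : Subgroup G))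
    ⟨⟨fun a b => Subtype.ext (Subtype.ext (Grp.elemAb_comm hE _ a.2 _ b.2))⟩⟩
    (fun a ha => Subtype.ext (hE.2 _ ha))
  rw [Nat.card_congr (subgroupOfEquivOfLe hES).toEquiv, hc] at h1
  norm_num at h1

/-- A simple group with a proper 2-generated core is listed. -/
theorem listed_of_proper_core (hSD : AbgConsumers.SDStmt.{u}) (hWr : AbgConsumers.WrStmt.{u})
    (hE : OneCentralStmt.{u}) [IsSimpleGroup G] (hna : ¬ IsMulCommutative G)
    (hc : Cfsg.HasProperTwoGeneratedCore G) : Listed G := by
  haveI : Fact (Nat.Prime 2) := ⟨Nat.prime_two⟩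
  obtain ⟨hr, S, hM⟩ := hc
  change Fus.FourGraph.core S ≠ ⊤ at hM
  by_cases h8 : HasEight S
  swap
  · exact listed_of_rank_two hSD hWr hna hr S hM (pRankLE_of_not_hasEight S h8)
  have h3 := not_prankLE_two_of_eight h8
  have hS2 := Fus.FourGraph.not_prankLE_sylow hr S
  have hSM := sylow_le_core hS2
  have h := ax_core hr S hM
  obtain ⟨z, hz, hz2, hzc⟩ := exists_central_involution S hS2
  by_cases hbad : ∀ a ∈ (S : Subgroup G), orderOf a = 2 → (∀ s ∈ (S : Subgroup G), Commute s a) →
      ∃ c : G, Commute c a ∧ c ∉ Fus.FourGraph.core S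
  swap
  · push Not at hbad
    obtain ⟨a, ha, ha2, hac, hgood⟩ := hbad
    obtain ⟨y, hy, hy2, hyne⟩ := exists_second hS2 a
    exact listed_of_good hna h S ha ha2 hac (fun c hc => hgood c (mem_centralizer_singleton_iff.1 hc)) hy hy2 hyne
  by_cases huniq : ∀ a ∈ (S : Subgroup G), orderOf a = 2 → (∀ s ∈ (S : Subgroup G), Commute s a) → a = z
  · exact hE G hna _ S z (TwistPre.of_ax h hSM h8 hz hz2 hzc huniq (hbad z hz hz2 hzc))
  · push Not at huniq
    obtain ⟨f, hf, hf2, hfc, hfz⟩ := huniq
    obtain ⟨y, hy, hy2, hyz, hyf, hyfz⟩ := exists_fourth h3 z f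
    exact listed_of_two_central hna h S hSM hbad hz hz2 hzc hf hf2 hfc hfz hy hy2 hyz hyf hyfz

end Cfsg.Agent.Invol.ProperCore
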