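import Cfsg.Agent.Lib.Invol.ProperCore.Basic
import Cfsg.Agent.Lib.Invol.Core2.TwistBottom
import Cfsg.Agent.Lib.Invol.Core2.TwistTransfer
import Cfsg.Agent.S1169

/-!
# One central involution without cover roots: a strongly embedded subgroup

Modulo the centre the image of `H` is strongly embedded in a normal subgroup containing all its involutions, whose
involutions are conjugate and lift to involutions. So the involutions of the Sylow subgroup commute, and Goldschmidt's
theorem on strongly closed abelian subgroups gives a strongly embedded subgroup of the whole group.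
-/

set_option autoImplicit false
set_option linter.unusedSectionVars false
set_option linter.style.haveILetI false

namespace Cfsg.Agent.Invol.Core2.Bottom

open Subgroup

variable {C : Type*} [Group C] [Finite C] {H : Subgroup C} {T : Sylow 2 C} {u : C}

/-- An element of a normal odd subgroup modulo `u` of a normal subgroup is trivial modulo `u`. -/
theorem mem_zpowers_of_odd (h : TwistC H T u) {K N : Subgroup C} [K.Normal] (hNK : N ≤ K) (huN : u ∈ N)
    (hn : ∀ k ∈ K, ∀ x ∈ N, k * x * k⁻¹ ∈ N) (hN : ∀ x ∈ N, x * x ∈ zpowers u → x ∈ zpowers u) :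
    N ≤ zpowers u := by
  classical
  haveI : Fact (Nat.Prime 2) := ⟨Nat.prime_two⟩
  obtain ⟨U, hUdef⟩ : ∃ U : Subgroup N, U = (zpowers u).subgroupOf N := ⟨_, rfl⟩
  haveI : U.Normal := ⟨fun a ha c => by
    rw [hUdef, mem_subgroupOf] at ha ⊢
    exact (normal_zpowers h).conj_mem _ ha _⟩
  have hUcard : Nat.card U = 2 := by
    rw [hUdef, Nat.card_congr (subgroupOfEquivOfLe (zpowers_le.2 huN)).toEquiv, Nat.card_zpowers, h.two]
  have hUidx : Odd U.index := Nat.not_even_iff_odd.1 fun hev => by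
    rw [even_iff_two_dvd, Subgroup.index_eq_card] at hev
    obtain ⟨q, hq⟩ := exists_prime_orderOf_dvd_card' 2 hev
    obtain ⟨g, rfl⟩ := QuotientGroup.mk'_surjective U q
    have hgg : g * g ∈ U := (QuotientGroup.eq_one_iff _).1
      (by rw [← QuotientGroup.mk'_apply, map_mul]; exact mul_self_of_orderOf_two hq)
    rw [hUdef, mem_subgroupOf] at hgg
    exact ne_one_of_orderOf_two hq
      ((QuotientGroup.eq_one_iff g).2 (by rw [hUdef, mem_subgroupOf]; exact hN _ g.2 hgg))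
  obtain ⟨L, hL⟩ := exists_left_complement'_of_coprime (N := U) (by rw [hUcard]; exact Nat.coprime_two_left.2 hUidx)
  have hLidx : L.index = 2 := by rw [hL.symm.index_eq_card, hUcard]
  have hLo : Odd (Nat.card L) := by rw [← hL.index_eq_card]; exact hUidx
  have hLmem : ∀ a : N, Odd (orderOf a) → a ∈ L := fun a ha => by
    obtain ⟨k, hk⟩ := ha
    have h3 := pow_mem (Subgroup.sq_mem_of_index_two hLidx a) (k + 1)
    rwa [← pow_mul, show 2 * (k + 1) = 2 * k + 1 + 1 by ring, pow_succ, ← hk, pow_orderOf_eq_one, one_mul] at h3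
  have hbot : L.map N.subtype = ⊥ := by
    rw [eq_bot_iff, ← coreSub_eq_bot h K]
    refine le_coreSub ((map_subtype_le L).trans hNK) ?_ (by rwa [card_map_of_injective N.subtype_injective])
    rintro c hc _ ⟨a, ha, rfl⟩
    refine ⟨⟨c * a * c⁻¹, hn c hc a a.2⟩, hLmem _ ?_, rfl⟩
    rw [← Subgroup.orderOf_coe, Invol.orderOf_conj_eq, Subgroup.orderOf_coe]
    exact hLo.of_dvd_nat (L.orderOf_dvd_natCard ha)
  intro x hx
  have h1 : (⟨x, hx⟩ : N) ^ 2 ∈ L := Subgroup.sq_mem_of_index_two hLidx _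
  have h2 : x * x ∈ L.map N.subtype := ⟨_, h1, by simp [pow_two]⟩
  rw [hbot, mem_bot] at h2
  exact hN x hx (h2 ▸ one_mem _)

/-- The involutions of `H` commute. -/
theorem commute_invol (h : TwistC H T u) (hno : ∀ v, ¬ CoverRoot H u v) {y w : C} (hy : y ∈ H) (hy2 : orderOf y = 2)
    (hw : w ∈ H) (hw2 : orderOf w = 2) : Commute y w := by
  classical
  by_cases hyu : y = u
  · exact hyu ▸ (h.cent w).symm
  by_cases hwu : w = u
  · exact hwu ▸ h.cent y
  haveI := normal_zpowers h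
  obtain ⟨z, hm⟩ := exists_mid h
  obtain ⟨π, hπ⟩ : ∃ π : C →* C ⧸ zpowers u, π = QuotientGroup.mk' (zpowers u) := ⟨_, rfl⟩
  have hπs : Function.Surjective π := hπ ▸ QuotientGroup.mk'_surjective _
  have hπ1 : ∀ {a : C}, π a = 1 ↔ a ∈ zpowers u := fun {a} => hπ ▸ QuotientGroup.eq_one_iff a
  have hinv : ∀ {a : C}, orderOf a = 2 → a ≠ u → orderOf (π a) = 2 := fun {a} ha hau => orderOf_two_iff.2
    ⟨by rw [← map_mul, mul_self_of_orderOf_two ha, map_one],
      fun e => (mem_zpowers_u h (hπ1.1 e)).elim (ne_one_of_orderOf_two ha) hau⟩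
  obtain ⟨L, hLdef⟩ : ∃ L : Subgroup (C ⧸ zpowers u), L = normalClosure ({π z} : Set (C ⧸ zpowers u)) := ⟨_, rfl⟩
  haveI hLn : L.Normal := hLdef ▸ normalClosure_normal
  obtain ⟨X, hXdef⟩ : ∃ X : Subgroup ↥L, X = (H.map π).subgroupOf L := ⟨_, rfl⟩
  have hse : Cfsg.IsStronglyEmbedded X := by
    subst hXdef hLdef hπ
    exact se h hno hm
  have hin : ∀ {a : C}, a ∈ H → orderOf a = 2 → a ≠ u → π a ∈ L := fun {a} ha ha2 hau => by
    obtain ⟨d, -, rfl⟩ := class_mid h hno hm ha ha2 hau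
    rw [map_mul, map_mul, map_inv]
    exact hLn.conj_mem _ (hLdef ▸ subset_normalClosure rfl) _
  have hmk : ∀ {a : C} (hal : π a ∈ L), a ∈ H → (⟨π a, hal⟩ : ↥L) ∈ X := fun {a} hal ha => by
    rw [hXdef, mem_subgroupOf]; exact mem_map_of_mem π ha
  have hord : ∀ {a : C} (hal : π a ∈ L), orderOf (π a) = 2 → orderOf (⟨π a, hal⟩ : ↥L) = 2 := fun {a} hal ha => by
    rwa [Subgroup.orderOf_mk]
  have hcore : X.normalCore = ⊥ := by
    rw [eq_bot_iff]
    intro x hx
    obtain ⟨a, ha⟩ := hπs (x : C ⧸ zpowers u)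
    obtain ⟨N, hNdef⟩ : ∃ N : Subgroup C, N = (X.normalCore.map L.subtype).comap π := ⟨_, rfl⟩
    haveI : (L.comap π).Normal := hLn.comap π
    have hN : N ≤ zpowers u := by
      refine mem_zpowers_of_odd h (K := L.comap π) ?_ ?_ ?_ ?_
      · rw [hNdef]; exact comap_mono (map_subtype_le _)
      · rw [hNdef, mem_comap, hπ1.2 (mem_zpowers u)]; exact one_mem _
      · intro k hk b hb
        rw [hNdef, mem_comap] at hb ⊢
        obtain ⟨b', hb', e⟩ := hb
        refine ⟨⟨π k, hk⟩ * b' * (⟨π k, hk⟩ : ↥L)⁻¹, (normalCore_normal X).conj_mem b' hb' _, ?_⟩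
        rw [map_mul, map_mul, map_inv, map_mul, map_mul, map_inv, ← e]
        rfl
      · intro b hb hbb
        rw [hNdef, mem_comap] at hb
        obtain ⟨b', hb', e⟩ := hb
        by_contra hbn
        have hb2 : orderOf b' = 2 := orderOf_two_iff.2 ⟨Subtype.ext (by
          show L.subtype b' * L.subtype b' = 1
          rw [e, ← map_mul, hπ1.2 hbb]), fun e' => hbn (hπ1.1 (by rw [← e, e', map_one]))⟩
        refine hse.1 (eq_top_iff.2 fun g _ => ?_)
        refine (Invol.isStronglyEmbedded_iff hse.1 hse.2.1).1 hse b' (normalCore_le X hb') hb2 g (normalCore_le X ?_)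
        have h1 := (normalCore_normal X).conj_mem b' hb' g⁻¹
        rwa [inv_inv] at h1
    have h1 : a ∈ N := by rw [hNdef, mem_comap, ha]; exact ⟨x, hx, rfl⟩
    exact mem_bot.2 (Subtype.ext (by rw [← ha, hπ1.2 (hN h1)]; rfl))
  obtain ⟨y₀, hy₀T, hy₀2, hy₀u, hy₀z, hy₀1, hy₀1'⟩ := exists_second h hm
  have hzH := h.le hm.mem
  have hzL := hin hzH hm.two hm.ne
  have hy₀L := hin (h.le hy₀T) hy₀2 hy₀u
  have hrank : Bender.TwoRank (⊤ : Subgroup ↥L) := by
    refine ⟨⟨π z, hzL⟩, mem_top _, ⟨π y₀, hy₀L⟩, mem_top _, hord _ (hinv hm.two hm.ne), hord _ (hinv hy₀2 hy₀u),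
      fun e => ?_, Subtype.ext (hy₀z.symm.map π).eq⟩
    have e' : π z = π y₀ := congrArg Subtype.val e
    rw [hπ] at e'
    rcases eq_or_mul_u h e' with e1 | e1
    exacts [hy₀1 e1, hy₀1' e1]
  have hc := Fus.RootClass.commute_involutions hse hcore hrank (hord (hin hy hy2 hyu) (hinv hy2 hyu)) (hmk _ hy)
    (hord (hin hw hw2 hwu) (hinv hw2 hwu)) (hmk _ hw)
  have hc' : π y * π w = π w * π y := congrArg Subtype.val hc.eq
  rw [hπ] at hc'
  rcases sgn_of_map h hc' with e | e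
  · exact mul_inv_eq_iff_eq_mul.1 e
  exfalso
  have hyy := mul_self_of_orderOf_two hy2
  have hvv : y * w * (y * w) = u := by
    rw [show y * w * (y * w) = y * w * y⁻¹ * (y * y * w) by group, e, hyy, one_mul,
      show w * u * w = w * (u * w) by group, ← (h.cent w).eq, ← mul_assoc, mul_self_of_orderOf_two hw2, one_mul]
  have hvn : y * w ∉ zpowers u := fun hv => by
    rcases mem_zpowers_u h hv with e' | e' <;> rw [e'] at hvv
    · exact ne_one_of_orderOf_two h.two (by rw [← hvv, one_mul])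
    · exact ne_one_of_orderOf_two h.two (by rw [← hvv, uu h])
  have hvL : π (y * w) ∈ L := by rw [map_mul]; exact L.mul_mem (hin hy hy2 hyu) (hin hw hw2 hwu)
  have hv2 : orderOf (π (y * w)) = 2 := orderOf_two_iff.2
    ⟨by rw [← map_mul, hπ1]; rw [hvv]; exact mem_zpowers u, fun e' => hvn (hπ1.1 e')⟩
  obtain ⟨g, hg⟩ := _root_.isConj_iff.1 (Invol.isConj_involutions hse (hord hzL (hinv hm.two hm.ne)) (hord hvL hv2))
  obtain ⟨k, hk⟩ := hπs (g : C ⧸ zpowers u)
  have hg' : π (k * z * k⁻¹) = π (y * w) := by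
    rw [map_mul, map_mul, map_inv, hk]
    exact congrArg Subtype.val hg
  rw [hπ] at hg'
  have hsq : k * z * k⁻¹ * (k * z * k⁻¹) = 1 := mul_self_of_orderOf_two (conj_invol h hm.two hm.ne k).1
  refine ne_one_of_orderOf_two h.two ?_
  rcases eq_or_mul_u h hg' with e' | e' <;> rw [← hvv, e']
  · exact hsq
  · rw [show k * z * k⁻¹ * u * (k * z * k⁻¹ * u) = k * z * k⁻¹ * (u * (k * z * k⁻¹)) * u by group,
      ← (h.cent (k * z * k⁻¹)).eq, show k * z * k⁻¹ * (k * z * k⁻¹ * u) * u = k * z * k⁻¹ * (k * z * k⁻¹) * (u * u) by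
        group, hsq, uu h, one_mul]

end Cfsg.Agent.Invol.Core2.Bottom

namespace Cfsg.Agent.Invol.ProperCore

open Subgroup Cfsg.Agent.Invol.Core2

universe u

variable {G : Type u} [Group G] [Finite G] {M W : Subgroup G} {S : Sylow 2 G} {z : G}

/-- Without cover roots the group has a strongly embedded subgroup. -/
theorem listed_of_no_root [IsSimpleGroup G] (hna : ¬ IsMulCommutative G) (c : TwistPre M W S z)
    (hno : ¬ ∃ v, CoverRoot (hBar M z) (uBar z) v) : Listed G := by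
  haveI : Fact (Nat.Prime 2) := ⟨Nat.prime_two⟩
  have hcomm : ∀ a ∈ (S : Subgroup G), a * a = 1 → ∀ b ∈ (S : Subgroup G), b * b = 1 → Commute a b := by
    intro a ha haa b hb hbb
    by_cases ha1 : a = 1
    · exact ha1 ▸ Commute.one_left b
    by_cases hb1 : b = 1
    · exact hb1 ▸ Commute.one_right a
    have key : ∀ x (hx : x ∈ (S : Subgroup G)), x * x = 1 → x ≠ 1 →
        toCBar z ⟨x, c.le_cent hx⟩ ∈ hBar M z ∧ orderOf (toCBar z ⟨x, c.le_cent hx⟩) = 2 := fun x hx hxx hx1 =>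
      ⟨mem_map_of_mem _ (show (⟨x, c.le_cent hx⟩ : ↥(centralizer ({z} : Set G))) ∈ M.subgroupOf _ from c.le hx),
        orderOf_two_iff.2 ⟨by
          rw [← map_mul, show (⟨x, _⟩ : ↥(centralizer ({z} : Set G))) * ⟨x, _⟩ = 1 from Subtype.ext hxx, map_one],
          fun e => hx1 (c.inj (k := ⟨x, c.le_cent hx⟩) hx e)⟩⟩
    obtain ⟨h1, h2⟩ := key a ha haa ha1
    obtain ⟨h3, h4⟩ := key b hb hbb hb1
    have h5 := Bottom.commute_invol c.twistC (fun v hv => hno ⟨v, hv⟩) h1 h2 h3 h4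
    exact c.eq_of_bar_eq (s := ⟨a, c.le_cent ha⟩ * ⟨b, c.le_cent hb⟩) (t := ⟨b, c.le_cent hb⟩ * ⟨a, c.le_cent ha⟩)
      (mul_mem ha hb) (mul_mem hb ha) (by rw [map_mul, map_mul]; exact h5.eq)
  let A : Subgroup G :=
    { carrier := {x | x ∈ (S : Subgroup G) ∧ x * x = 1}
      one_mem' := ⟨one_mem _, one_mul 1⟩
      mul_mem' := fun {a b} ha hb => ⟨mul_mem ha.1 hb.1, by
        calc a * b * (a * b) = a * (b * a) * b := by group
          _ = a * a * (b * b) := by rw [← (hcomm a ha.1 ha.2 b hb.1 hb.2).eq]; group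
          _ = 1 := by rw [ha.2, hb.2, one_mul]⟩
      inv_mem' := fun {a} ha => ⟨inv_mem ha.1, by rw [← mul_inv_rev, ha.2, inv_one]⟩ }
  have hA : A ≠ ⊥ := fun e => ne_one_of_orderOf_two c.two_u (mem_bot.1 (e ▸
    (⟨c.mem, mul_self_of_orderOf_two c.two_u⟩ : z ∈ A)))
  have hAc : IsMulCommutative A := ⟨⟨fun a b => Subtype.ext (hcomm a a.2.1 a.2.2 b b.2.1 b.2.2).eq⟩⟩
  have hsc : Cfsg.IsStronglyClosed A (S : Subgroup G) := ⟨fun a ha => ha.1, fun x hx g hg => ⟨hg, by
    rw [show g * x * g⁻¹ * (g * x * g⁻¹) = g * (x * x) * g⁻¹ by group, hx.2, mul_one, mul_inv_cancel]⟩⟩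
  rcases S1169.result S A hA hAc hsc with hS | ⟨H, hH⟩
  swap
  · exact listed_of_strongly_embedded hna hH
  obtain ⟨E, hES, hE, hE8⟩ := c.eight
  have hsub : E ≤ zpowers z := fun x hx => by
    by_cases hx1 : x = 1
    · exact hx1 ▸ one_mem _
    rw [c.uniq x (hES hx) (orderOf_eq_prime (hE.2 x hx) hx1) fun s hs =>
      congrArg Subtype.val (hS.is_comm.comm ⟨s, hs⟩ ⟨x, hES hx⟩)]
    exact mem_zpowers z
  have := card_le_of_le hsub
  rw [hE8, Nat.card_zpowers, c.two_u] at this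
  omega

end Cfsg.Agent.Invol.ProperCore
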