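import Cfsg.Agent.Lib.Invol.ProperCore.Basic
import Cfsg.Agent.Lib.Invol.Core2.TwistSwapLoc
import Cfsg.Agent.Lib.Fus.FourConnected

/-!
# Two exchanged components: the commuting graph of the involutions of the Sylow subgroup

An involution other than `u` keeping both quaternion groups is a product of two roots, an exchanging one commutes
with such a product, and those products have diameter two. So the graph of four-subgroups is connected.
-/

set_option autoImplicit false
set_option linter.unusedSectionVars false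
set_option linter.style.haveILetI false

namespace Cfsg.Agent.Invol.Core2

open Subgroup
open scoped Pointwise

variable {C : Type*} [Group C] [Finite C] {H : Subgroup C} {T : Sylow 2 C} {u : C} {Q R : Subgroup C}

/-- The symmetrical form of a swapped pair. -/
theorem Pair.of_swapPair {a : C} (h : TwistC H T u) (s : SwapPair H T u Q R a)
    (hsq : ∀ q ∈ Q, q * q = 1 ∨ q * q = u) : Pair H T u Q R := by
  have hua : a⁻¹ * u * a = u := by rw [mul_assoc, ← (h.cent a).eq, inv_mul_cancel_left]
  have hback : ∀ x, x = a⁻¹ * (a * x * a⁻¹) * a := fun x => by group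
  exact {
    leT := s.leT
    leR := s.leT'
    card := s.card
    cardR := by
      refine le_antisymm ?_ ?_
      · rw [← s.card, ← card_map_of_injective (K := R) (f := (MulAut.conj a).toMonoidHom) (MulAut.conj a).injective]
        exact card_le_of_le (by rintro _ ⟨x, hx, rfl⟩; exact s.conj' x hx)
      · rw [← s.card, ← card_map_of_injective (K := Q) (f := (MulAut.conj a).toMonoidHom) (MulAut.conj a).injective]
        exact card_le_of_le (by rintro _ ⟨x, hx, rfl⟩; exact s.conj x hx)
    sq := hsq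
    sqR := fun x hx => by
      have e : x * x = a⁻¹ * (a * x * a⁻¹ * (a * x * a⁻¹)) * a := by group
      rcases hsq _ (s.conj' x hx) with e' | e' <;> rw [e, e']
      · exact Or.inl (by group)
      · exact Or.inr hua
    uniq := s.uniq
    uniqR := fun x hx hxx => by
      have e : a * x * a⁻¹ * (a * x * a⁻¹) = 1 := by
        rw [show a * x * a⁻¹ * (a * x * a⁻¹) = a * (x * x) * a⁻¹ by group, hxx, mul_one, mul_inv_cancel]
      rcases s.uniq _ (s.conj' x hx) e with e' | e'
      · exact Or.inl (by rw [hback x, e']; group)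
      · exact Or.inr (by rw [hback x, e', hua])
    inf := s.inf
    comm := s.comm
    cover := s.cover
    coverR := s.cover'
    stab := s.stab
    swap := ⟨a, s.memT, s.conj, s.conj'⟩ }

namespace Pair

variable (h : TwistC H T u) (d : Pair H T u Q R)
include h d

theorem root_cases {q q' : C} (hq : q ∈ Q) (hqq : q * q = u) (hq' : q' ∈ Q) (hq'q : q' * q' = u) :
    (q' = q ∨ q' = q * u) ∨ q' * q = q * q' * u := by
  have hqi : q⁻¹ = q * u := inv_eq_of_mul_eq_one_right (by rw [← mul_assoc, hqq, h.uu])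
  have hmul : ∀ x, x = 1 ∨ x = u → q * q' = x → q' = q ∨ q' = q * u := fun x hx e => by
    rw [eq_inv_mul_of_mul_eq e, hqi]
    rcases hx with rfl | rfl
    · exact Or.inr (mul_one _)
    · exact Or.inl (by rw [mul_assoc, h.uu, mul_one])
  rcases d.sq _ (mul_mem hq hq') with e | e
  · exact Or.inl (hmul _ (d.uniq _ (mul_mem hq hq') e) rfl)
  · refine Or.inr ?_
    calc q' * q = q⁻¹ * (q * q' * (q * q')) * q'⁻¹ := by group
      _ = q⁻¹ * (u * q'⁻¹) := by rw [e]; group
      _ = q * u * (u * (q' * u)) := by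
        rw [hqi, show q'⁻¹ = q' * u from inv_eq_of_mul_eq_one_right (by rw [← mul_assoc, hq'q, h.uu])]
      _ = q * (u * u) * q' * u := by group
      _ = q * q' * u := by rw [h.uu, mul_one]

/-- An involution other than `u` keeping the two groups is a product of a root from each. -/
theorem stable_invol (h5 : FiveAt H u) {w : C} (hwT : w ∈ (T : Subgroup C)) (hw2 : orderOf w = 2) (hwu : w ≠ u)
    (hwR : ∀ r ∈ R, w * r * w⁻¹ ∈ R) :
    ∃ q ∈ Q, ∃ r ∈ R, q * q = u ∧ r * r = u ∧ w = q * r := by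
  classical
  have hww := mul_self_of_orderOf_two hw2
  obtain ⟨p, hp, hpp, hwp⟩ : ∃ p ∈ R, p * p = u ∧ (w * p * w⁻¹ = p ∨ w * p * w⁻¹ = p * u) := by
    obtain ⟨x, hx, hxx⟩ := d.symm.exists_root h
    obtain ⟨y, hy⟩ : ∃ y, y = w * x * w⁻¹ := ⟨_, rfl⟩
    have hyy : y * y = u := by
      rw [hy, show w * x * w⁻¹ * (w * x * w⁻¹) = w * (x * x) * w⁻¹ by group, hxx, (h.cent w).eq, mul_inv_cancel_right]
    rcases d.symm.root_cases h hx hxx (hy ▸ hwR x hx) hyy with (e | e) | e
    · exact ⟨x, hx, hxx, Or.inl (hy ▸ e)⟩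
    · exact ⟨x, hx, hxx, Or.inr (hy ▸ e)⟩
    · refine ⟨x * y, mul_mem hx (hy ▸ hwR x hx), ?_, Or.inr ?_⟩
      · calc x * y * (x * y) = x * (y * x) * y := by group
          _ = x * x * y * (u * y) := by rw [e]; group
          _ = x * x * (y * y) * u := by rw [← (h.cent y).eq]; group
          _ = u := by rw [hxx, hyy, h.uu, one_mul]
      · calc w * (x * y) * w⁻¹ = w * x * w⁻¹ * (w * y * w⁻¹) := by group
          _ = y * (w * w * x * (w * w)⁻¹) := by rw [hy]; group
          _ = x * y * u := by rw [hww, one_mul, inv_one, mul_one, e]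
  have hwst := d.symm.mem_st_of_norm h hp hpp (h.le hwT) hwp
  haveI : Fintype ↥(comp H p) := Fintype.ofFinite _
  have hcard : Fintype.card ↥(comp H p) = 5 := by
    rw [← Nat.card_eq_fintype_card, Nat.card_coe_set_eq]; exact h5 p (d.coverR p hp hpp)
  let P : ∀ x ∈ Q, ↥(Comp.st H p) := fun x hx => ⟨x, Comp.commute_mem_st (d.comm x hx p hp)⟩
  have hX : Five.OneFix (Comp.perm H p ⟨w, hwst⟩) (Comp.base H p) :=
    h.oneFix (y := ⟨w, hwst⟩) hw2 hwu (h.le hwT)
  obtain ⟨q, hq, hqq⟩ := d.exists_root h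
  obtain ⟨q', hq', hq'q, hanti, hq'z⟩ := d.exists_anti h hq hqq
  have hprod : q * q' * (q * q') = u := by
    calc q * q' * (q * q') = q * (q' * q) * q' := by group
      _ = q * q * q' * (u * q') := by rw [hanti]; group
      _ = q * q * (q' * q') * u := by rw [← (h.cent q').eq]; group
      _ = u := by rw [hqq, hq'q, h.uu, one_mul]
  have hA := d.symm.oneFix h hp hpp hq hqq
  have hB := d.symm.oneFix h hp hpp hq' hq'q
  have hAB : Five.OneFix (Comp.perm H p (P q hq) * Comp.perm H p (P q' hq')) (Comp.base H p) := by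
    rw [← map_mul]
    exact d.symm.oneFix h hp hpp (mul_mem hq hq') hprod
  have hne : Comp.perm H p (P q hq) ≠ Comp.perm H p (P q' hq') := fun e => by
    refine Comp.one_ne h5 (d.coverR p hp hpp) hAB ?_
    rw [e, ← map_mul, Comp.perm_eq_one]
    show q' * q' ∈ Comp.ker H p
    rw [hq'q]
    exact Comp.u_mem_ker h
  obtain ⟨x, hx, hxx, e⟩ : ∃ x, ∃ hx : x ∈ Q, x * x = u ∧ Comp.perm H p ⟨w, hwst⟩ = Comp.perm H p (P x hx) := by
    rcases hX.mem_four hcard hA hB hAB hne with e | e | e
    · exact ⟨q, hq, hqq, e⟩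
    · exact ⟨q', hq', hq'q, e⟩
    · exact ⟨q * q', mul_mem hq hq', hprod, e.trans (map_mul _ _ _).symm⟩
  have hr : x⁻¹ * w ∈ R := d.symm.T0_le h hp hpp h5
    ⟨(T : Subgroup C).mul_mem ((T : Subgroup C).inv_mem (d.leT hx)) hwT,
      (Comp.perm_eq_iff.1 e.symm : x⁻¹ * w ∈ Comp.ker H p)⟩
  refine ⟨x, hx, _, hr, hxx, ?_, (mul_inv_cancel_left x w).symm⟩
  have h1 : x * x * (x⁻¹ * w * (x⁻¹ * w)) = 1 := by
    rw [show x * x * (x⁻¹ * w * (x⁻¹ * w)) = x * (x * (x⁻¹ * w)) * (x⁻¹ * w) by group,
      (d.comm x hx _ hr).eq, show x * (x⁻¹ * w * x) * (x⁻¹ * w) = w * w by group, hww]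
  rw [hxx] at h1
  rw [eq_inv_of_mul_eq_one_right h1, inv_eq_of_mul_eq_one_right h.uu]

omit h d in
/-- Two pairs of anticommuting factors give commuting products. -/
theorem commute_anti_mul (h : TwistC H T u) {q q' r r' : C} (h1 : q' * q = q * q' * u) (h2 : r' * r = r * r' * u)
    (c1 : Commute r q') (c2 : Commute r' q) : Commute (q * r) (q' * r') :=
  Eq.symm <| calc q' * r' * (q * r) = q' * (r' * q) * r := by group
    _ = q' * q * (r' * r) := by rw [c2.eq]; group
    _ = q * q' * (u * r) * r' * u := by rw [h1, h2]; group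
    _ = q * (q' * r) * (u * r') * u := by rw [← (h.cent r).eq]; group
    _ = q * (r * q') * r' * (u * u) := by rw [← (h.cent r').eq, c1.eq]; group
    _ = q * r * (q' * r') := by rw [h.uu, mul_one]; group

/-- Involutions of `T` other than `u` that commute. -/
def Link (T : Sylow 2 C) (u : C) (x y : C) : Prop :=
  Commute x y ∧ y ∈ (T : Subgroup C) ∧ orderOf y = 2 ∧ y ≠ u

theorem link_prod {q r q' r' : C} (hq : q ∈ Q) (hr : r ∈ R) (hq' : q' ∈ Q) (hr' : r' ∈ R) (hqq : q * q = u)
    (hrr : r * r = u) (hq'q : q' * q' = u) (hr'r : r' * r' = u) :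
    Relation.ReflTransGen (Link T u) (q * r) (q' * r') := by
  have hmk : ∀ {a b : C}, a ∈ Q → b ∈ R → a * a = u → b * b = u → ∀ {x : C}, Commute x (a * b) →
      Link T u x (a * b) := fun {a b} ha hb haa hbb {x} hc =>
    ⟨hc, mul_mem (d.leT ha) (d.leR hb), (d.mul_invol h ha hb haa hbb).1, (d.mul_invol h ha hb haa hbb).2.1⟩
  have hswap : ∀ {a b a' : C}, (a' = a ∨ a' = a * u) → b * a = a * b * u → b * a' = a' * b * u :=
    fun {a b a'} e e2 => by
      rcases e with rfl | rfl
      · exact e2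
      · rw [← mul_assoc, e2, mul_assoc a u b, ← (h.cent b).eq, ← mul_assoc]
  have hflip : ∀ {a b : C}, b * a = a * b * u → a * b = b * a * u := fun {a b} e => by
    rw [e, mul_assoc, h.uu, mul_one]
  have hthird : ∀ {a b : C}, a * a = u → b * b = u → b * a = a * b * u →
      a * b * (a * b) = u ∧ a * b * a = a * (a * b) * u ∧ b * (a * b) = a * b * b * u := fun {a b} haa hbb e => by
    refine ⟨?_, ?_, ?_⟩
    · calc a * b * (a * b) = a * (b * a) * b := by group
        _ = a * a * b * (u * b) := by rw [e]; group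
        _ = a * a * (b * b) * u := by rw [← (h.cent b).eq]; group
        _ = u := by rw [haa, hbb, h.uu, one_mul]
    · rw [mul_assoc, e]; group
    · calc b * (a * b) = b * a * b := by group
        _ = a * b * (u * b) := by rw [e]; group
        _ = a * b * b * u := by rw [← (h.cent b).eq]; group
  rcases d.root_cases h hq hqq hq' hq'q with e1 | e1 <;> rcases d.symm.root_cases h hr hrr hr' hr'r with e2 | e2
  · refine Relation.ReflTransGen.single (hmk hq' hr' hq'q hr'r ?_)
    rcases e1 with e1 | e1 <;> rcases e2 with e2 | e2 <;> rw [e1, e2]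
    · rw [← mul_assoc]; exact (Commute.refl _).mul_right (h.cent _)
    · rw [show q * u * r = q * r * u by rw [mul_assoc, ← (h.cent r).eq, ← mul_assoc]]
      exact (Commute.refl _).mul_right (h.cent _)
    · rw [show q * u * (r * u) = q * r by
        rw [show q * u * (r * u) = q * (u * r) * u by group, ← (h.cent r).eq, ← mul_assoc, mul_assoc (q * r), h.uu,
          mul_one]]
  · obtain ⟨p, hp, hpp, hpq, -⟩ := d.exists_anti h hq hqq
    obtain ⟨ho, ho1, ho2⟩ := hthird hrr hr'r e2
    have hm := mul_mem hr hr'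
    refine Relation.ReflTransGen.trans (Relation.ReflTransGen.single (hmk hp hm hpp ho ?_))
      (Relation.ReflTransGen.single (hmk hq' hr' hq'q hr'r ?_))
    · exact commute_anti_mul h hpq ho1 (d.comm p hp r hr).symm (d.comm q hq _ hm).symm
    · exact commute_anti_mul h (hflip (hswap e1 hpq)) ho2 (d.comm q' hq' _ hm).symm (d.comm p hp r' hr').symm
  · obtain ⟨p, hp, hpp, hpr, -⟩ := d.symm.exists_anti h hr hrr
    obtain ⟨ho, ho1, ho2⟩ := hthird hqq hq'q e1
    have hm := mul_mem hq hq'
    refine Relation.ReflTransGen.trans (Relation.ReflTransGen.single (hmk hm hp ho hpp ?_))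
      (Relation.ReflTransGen.single (hmk hq' hr' hq'q hr'r ?_))
    · exact commute_anti_mul h ho1 hpr (d.comm _ hm r hr).symm (d.comm q hq p hp).symm
    · exact commute_anti_mul h ho2 (hflip (hswap e2 hpr)) (d.comm q' hq' p hp).symm (d.comm _ hm r' hr').symm
  · exact Relation.ReflTransGen.single (hmk hq' hr' hq'q hr'r
      (commute_anti_mul h e1 e2 (d.comm q' hq' r hr).symm (d.comm q hq r' hr').symm))

/-- The involutions of `T` other than `u` form a connected graph under commuting. -/
theorem linked (h5 : FiveAt H u) {x y : C} (hx : x ∈ (T : Subgroup C)) (hx2 : orderOf x = 2) (hxu : x ≠ u)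
    (hy : y ∈ (T : Subgroup C)) (hy2 : orderOf y = 2) (hyu : y ≠ u) :
    Relation.ReflTransGen (Link T u) x y := by
  have near : ∀ w ∈ (T : Subgroup C), orderOf w = 2 → w ≠ u →
      ∃ q ∈ Q, ∃ r ∈ R, q * q = u ∧ r * r = u ∧ Commute w (q * r) := by
    intro w hw hw2 hwu
    rcases d.stab w hw with hs | hs
    · obtain ⟨q, hq, r, hr, hqq, hrr, rfl⟩ := d.stable_invol h h5 hw hw2 hwu hs.2
      exact ⟨q, hq, r, hr, hqq, hrr, Commute.refl _⟩
    · obtain ⟨q, hq, hqq⟩ := d.exists_root h
      refine ⟨q, hq, w * q * w⁻¹, hs.1 q hq, hqq, ?_, mul_inv_eq_iff_eq_mul.1 ?_⟩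
      · rw [show w * q * w⁻¹ * (w * q * w⁻¹) = w * (q * q) * w⁻¹ by group, hqq, (h.cent w).eq, mul_inv_cancel_right]
      · calc w * (q * (w * q * w⁻¹)) * w⁻¹ = w * q * w⁻¹ * (w * w * q * (w * w)⁻¹) := by group
          _ = w * q * w⁻¹ * q := by rw [mul_self_of_orderOf_two hw2, one_mul, inv_one, mul_one]
          _ = q * (w * q * w⁻¹) := (d.comm q hq _ (hs.1 q hq)).eq.symm
  obtain ⟨q, hq, r, hr, hqq, hrr, hc⟩ := near x hx hx2 hxu
  obtain ⟨q', hq', r', hr', hqq', hrr', hc'⟩ := near y hy hy2 hyu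
  exact (Relation.ReflTransGen.single (show Link T u x (q * r) from
    ⟨hc, mul_mem (d.leT hq) (d.leR hr), (d.mul_invol h hq hr hqq hrr).1, (d.mul_invol h hq hr hqq hrr).2.1⟩)).trans
    ((d.link_prod h hq hr hq' hr' hqq hrr hqq' hrr').tail ⟨hc'.symm, hy, hy2, hyu⟩)

/-- The graph of four-subgroups of `T` is connected. -/
theorem four_connected (h5 : FiveAt H u) : Cfsg.IsFourConnected ↥(T : Subgroup C) := by
  classical
  have huT : u ∈ (T : Subgroup C) := d.leT (d.u_mem h)
  obtain ⟨u', hu'⟩ : ∃ u' : ↥(T : Subgroup C), u' = ⟨u, huT⟩ := ⟨_, rfl⟩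
  have hu2 : orderOf u' = 2 := by rw [hu', Subgroup.orderOf_mk, h.two]
  have hcen : ∀ a : ↥(T : Subgroup C), Commute a u' := fun a => Subtype.ext (by
    show (a : C) * (u' : C) = (u' : C) * a
    rw [hu']; exact (h.cent a).eq)
  let F : ↥(T : Subgroup C) → Subgroup ↥(T : Subgroup C) := fun v => closure {u', v}
  have hF : ∀ v, orderOf v = 2 → v ≠ u' → IsKleinFour (F v) := fun v hv hvu =>
    ProperCore.isKleinFour_pair hu2 hv hvu.symm (hcen v).symm
  -- every four meets the commuting involutions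
  have hstart : ∀ V : Subgroup ↥(T : Subgroup C), IsKleinFour V → ∃ v, orderOf v = 2 ∧ v ≠ u' ∧
      Fus.FourGraph.Adj V (F v) := by
    intro V hV
    haveI := hV
    obtain ⟨v, hv, hvn⟩ : ∃ v ∈ V, v ∉ zpowers u' := SetLike.not_le_iff_exists.1 fun hle => by
      have := card_le_of_le hle
      rw [hV.card_four, Nat.card_zpowers, hu2] at this
      omega
    have hv2 : orderOf v = 2 := orderOf_eq_prime ((CoreConsumers.elemAb_of_klein hV).2 v hv)
      fun e => hvn (e ▸ one_mem _)
    refine ⟨v, hv2, fun e => hvn (e ▸ mem_zpowers u'), hV, hF v hv2 (fun e => hvn (e ▸ mem_zpowers u')),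
      fun a ha b hb => ?_⟩
    have h1 : F v ≤ centralizer ({a} : Set ↥(T : Subgroup C)) := (closure_le _).2 (by
      rintro x (rfl | rfl)
      · exact mem_centralizer_singleton_iff.2 (hcen a).symm.eq
      · exact mem_centralizer_singleton_iff.2 (Grp.elemAb_comm (CoreConsumers.elemAb_of_klein hV) _ hv _ ha))
    exact (mem_centralizer_singleton_iff.1 (h1 hb)).symm
  have hstep : ∀ v w, orderOf v = 2 → v ≠ u' → orderOf w = 2 → w ≠ u' → Commute v w →
      Fus.FourGraph.Adj (F v) (F w) := by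
    intro v w hv hvu hw hwu hvw
    refine ⟨hF v hv hvu, hF w hw hwu, fun a ha b hb => ?_⟩
    have h1 : F w ≤ centralizer ({v} : Set ↥(T : Subgroup C)) := (closure_le _).2 (by
      rintro x (rfl | rfl)
      · exact mem_centralizer_singleton_iff.2 (hcen v).symm.eq
      · exact mem_centralizer_singleton_iff.2 hvw.symm.eq)
    have h2 : F v ≤ centralizer ({b} : Set ↥(T : Subgroup C)) := (closure_le _).2 (by
      rintro x (rfl | rfl)
      · exact mem_centralizer_singleton_iff.2 (hcen b).symm.eq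
      · exact mem_centralizer_singleton_iff.2 (mem_centralizer_singleton_iff.1 (h1 hb)).symm)
    exact mem_centralizer_singleton_iff.1 (h2 ha)
  have hne : ∀ {v : ↥(T : Subgroup C)}, v ≠ u' → (v : C) ≠ u := fun hvu e => hvu (hu' ▸ Subtype.ext e)
  intro U V hU hV
  obtain ⟨v, hv, hvu, hUv⟩ := hstart U hU
  obtain ⟨w, hw, hwu, hVw⟩ := hstart V hV
  have hlink := d.linked h h5 v.2 (by rw [Subgroup.orderOf_coe, hv]) (hne hvu) w.2
    (by rw [Subgroup.orderOf_coe, hw]) (hne hwu)
  have hchain : ∀ y, Relation.ReflTransGen (Link T u) (v : C) y →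
      ∃ y' : ↥(T : Subgroup C), (y' : C) = y ∧ orderOf y' = 2 ∧ y' ≠ u' ∧
        Relation.ReflTransGen Fus.FourGraph.Adj (F v) (F y') := by
    intro y hy
    induction hy with
    | refl => exact ⟨v, rfl, hv, hvu, Relation.ReflTransGen.refl⟩
    | @tail b c _ hbc ih =>
      obtain ⟨b', rfl, hb2, hbu, hr⟩ := ih
      obtain ⟨hc, hcT, hc2, hcu⟩ := hbc
      have hc2' : orderOf (⟨c, hcT⟩ : ↥(T : Subgroup C)) = 2 := by rw [Subgroup.orderOf_mk, hc2]
      have hcu' : (⟨c, hcT⟩ : ↥(T : Subgroup C)) ≠ u' := fun e => hcu (by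
        rw [hu'] at e; exact congrArg Subtype.val e)
      exact ⟨⟨c, hcT⟩, rfl, hc2', hcu', hr.tail (hstep _ _ hb2 hbu hc2' hcu' (Subtype.ext hc.eq))⟩
  obtain ⟨w', hw', -, -, hr⟩ := hchain w hlink
  rw [Subtype.ext hw'] at hr
  exact (Relation.ReflTransGen.single hUv).trans (hr.trans (Relation.ReflTransGen.single
    (Fus.FourGraph.adj_symm hVw)))

end Pair

end Cfsg.Agent.Invol.Core2
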