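import Cfsg.Agent.Lib.Invol.ProperCore.TwistCaseNine
import Cfsg.Agent.Lib.Invol.ProperCore.TwistPairGraph
import Cfsg.Agent.Lib.Invol.Core2.TwistSwapLoc

/-!
# An exchanging involution in the swapped case

When an involution of the Sylow subgroup exchanges the two quaternion groups, the data of two five-point components
give the data of the nine points, so modulo `u` the centraliser is the alternating group of degree nine.
-/

set_option autoImplicit false
set_option linter.unusedSectionVars false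
set_option linter.style.haveILetI false

namespace Cfsg.Agent.Invol.ProperCore.TwistCase

open Subgroup Core2 MulAction

universe v

variable {Q : Type v} [Group Q] [Finite Q] {H : Subgroup Q} {S : Sylow 2 Q} {K : Set Q} {A B : Subgroup Q}

theorem smul_mk_eq (g c : Q) : g • (QuotientGroup.mk c : Q ⧸ H) = QuotientGroup.mk c ↔ c⁻¹ * g * c ∈ H := by
  rw [MulAction.Quotient.smul_coe, eq_comm, QuotientGroup.eq, smul_eq_mul, ← mul_assoc]

theorem smul_one_mk (g : Q) : g • (QuotientGroup.mk 1 : Q ⧸ H) = QuotientGroup.mk g := by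
  rw [MulAction.Quotient.smul_coe, smul_eq_mul, mul_one]

/-- Two exchanged sides with an exchanging member of `K` give the alternating group of degree nine. -/
theorem iso_of_sides (d : Sides H S K A B)
    (htrip : ∀ t₁ t₂ t₃ : Q, t₁ * t₁ = 1 → t₂ * t₂ = 1 → t₃ * t₃ = 1 → Commute t₁ t₂ → Commute t₁ t₃ →
      Commute t₂ t₃ → t₁ ∉ K → t₂ ∉ K → t₃ ∉ K → t₁ * t₂ ∉ K → t₁ * t₃ ∉ K → t₂ * t₃ ∉ K → t₁ ≠ 1 → t₂ ≠ 1 →
      t₃ ≠ 1 → t₁ * t₂ ≠ 1 → t₁ * t₃ ≠ 1 → t₂ * t₃ ≠ 1 → t₁ * t₂ * t₃ ≠ 1 → t₁ * t₂ * t₃ ∈ K)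
    {s : Q} (hs : s ∈ (S : Subgroup Q)) (hsK : s ∈ K) (hsA : ∀ x ∈ A, s * x * s⁻¹ ∈ B)
    (hsB : ∀ x ∈ B, s * x * s⁻¹ ∈ A) : Nonempty (Q ≃* alternatingGroup (Fin 9)) := by
  classical
  haveI : Fact (Nat.Prime 2) := ⟨Nat.prime_two⟩
  obtain ⟨a, h⟩ := d.exists_fixed
  obtain ⟨ha, ha1, -⟩ := id h
  obtain ⟨hb, -, hcen⟩ := d.fixed_conj h hs hsA hsB
  obtain ⟨_, _, _, _, t⟩ := d.exists_twoFive
  have hcore : coreC a = ⊥ :=
    le_bot_iff.1 (t.rootCores_eq_bot ▸ TwoFive.core_le_rootCores (Or.inl ha) ha1)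
  have hsi : s⁻¹ = s := inv_of_orderOf_two (d.K2 s hsK)
  obtain ⟨o, ho⟩ : ∃ o : Q ⧸ H, o = QuotientGroup.mk 1 := ⟨_, rfl⟩
  have hbase : ∀ {g : Q}, g ∈ H → g • o = o := fun {g} hg => by
    rw [ho, smul_mk_eq, inv_one, one_mul, mul_one]; exact hg
  have hbase' : ∀ {g : Q}, Commute g a → ∀ x : Q ⧸ H, g • o = x → a • x = x := fun {g} hg x e => by
    rw [← e, smul_smul, ← hg.eq, mul_smul, hbase (d.le (d.hA ha))]
  -- the fixed points of `a` form its component
  have horb : ∀ x : Q ⧸ H, a • x = x → ∃ c : Q, Commute c a ∧ c • o = x := by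
    intro x
    refine Quotient.inductionOn' x fun g hg => ?_
    obtain ⟨k, hk⟩ := exists_conj_mem_sylow (x := (⟨g⁻¹ * a * g, (smul_mk_eq a g).1 hg⟩ : H)) (p := 2) (n := 1)
      (by
        rw [pow_one, ← Subgroup.orderOf_coe]
        have := orderOf_conj_eq g⁻¹ a
        rw [inv_inv] at this
        rw [this]
        exact Sides.two (d.A2 a ha) ha1) (S.subtype d.le)
    obtain ⟨m, hm⟩ : ∃ m, m = g * (k : Q)⁻¹ := ⟨_, rfl⟩
    have hmS : m⁻¹ * a * m ∈ (S : Subgroup Q) := by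
      rw [show m⁻¹ * a * m = (k : Q) * (g⁻¹ * a * g) * (k : Q)⁻¹ by rw [hm]; group]
      exact hk
    have hbb := d.mulK a ha ha1 _ hb.1 hb.2.1
    have h1 : Commute (m * (a * (s * a * s⁻¹)) * m⁻¹) a := by
      have := commute_conj (g := m) (hcen _ hmS).symm
      rwa [show m * (m⁻¹ * a * m) * m⁻¹ = a by group] at this
    obtain ⟨c, hc, hcS⟩ := d.sylow_fixed_one h (by rw [orderOf_conj_eq, d.K2 _ hbb]) h1
    have hcm : c * m ∈ H := d.fix _ hbb (d.le (mul_mem (d.hA ha) (d.hB hb.1))) _ (by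
      rw [show c * m * (a * (s * a * s⁻¹)) * (c * m)⁻¹ = c * (m * (a * (s * a * s⁻¹)) * m⁻¹) * c⁻¹ by group]
      exact d.le hcS)
    refine ⟨c⁻¹, hc.inv_left, ?_⟩
    rw [ho, smul_one_mk]
    refine QuotientGroup.eq.2 ?_
    rw [inv_inv, show c * g = c * m * (k : Q) by rw [hm]; group]
    exact mul_mem hcm k.2
  have hfive : {x : Q ⧸ H | a • x = x}.ncard = 5 := by
    let f : ↥(centralizer ({a} : Set Q)) ⧸ H.subgroupOf (centralizer ({a} : Set Q)) → Q ⧸ H :=
      Quotient.map' (fun c => (c : Q)) fun c e he => by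
        rw [QuotientGroup.leftRel_apply] at he ⊢
        exact he
    have hf : Function.Injective f := by
      intro x y
      refine Quotient.inductionOn₂' x y fun c e he => ?_
      have h1 := (QuotientGroup.eq (s := H)).1 he
      exact (QuotientGroup.eq (s := H.subgroupOf (centralizer ({a} : Set Q)))).2 h1
    have hrange : Set.range f = {x : Q ⧸ H | a • x = x} := by
      ext x
      constructor
      · rintro ⟨q, rfl⟩
        refine Quotient.inductionOn' q fun c => ?_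
        exact hbase' (mem_C.1 c.2) _ (by rw [ho, smul_one_mk]; rfl)
      · intro hx
        obtain ⟨c, hc, rfl⟩ := horb x hx
        exact ⟨QuotientGroup.mk ⟨c, mem_C.2 hc⟩, by rw [ho, smul_one_mk]; rfl⟩
    rw [← hrange, ← Nat.card_coe_set_eq, ← Nat.card_congr (Equiv.ofInjective f hf)]
    exact d.fiveA a ha ha1
  have hlfix : ∀ g : Q, g ∈ K → ∀ x y : Q ⧸ H, g • x = x → g • y = y → x = y := by
    intro g hg x y
    refine Quotient.inductionOn₂' x y fun c e hc he => ?_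
    refine ((QuotientGroup.eq (s := H)).2 ?_).symm
    refine d.fix (c⁻¹ * g * c) ?_ ((smul_mk_eq g c).1 hc) _ ?_
    · have := d.Kc g hg c⁻¹; rwa [inv_inv] at this
    · rw [show e⁻¹ * c * (c⁻¹ * g * c) * (e⁻¹ * c)⁻¹ = e⁻¹ * g * e by group]
      exact (smul_mk_eq g e).1 he
  have D : NineData (fun g => g ∈ K) o A B a s := {
    trans := fun x => Quotient.inductionOn' x fun g => ⟨g, by rw [ho]; exact smul_one_mk g⟩
    lfix := hlfix
    trip := htrip
    ss := mul_self_of_orderOf_two (d.K2 s hsK)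
    sL := hsK
    so := hbase (d.le hs)
    ha := ha
    a1 := ha1
    cardA := d.cardA
    A2 := d.A2
    sA := fun x hx => by have := hsA x hx; rwa [hsi] at this
    sB := fun x hx => by have := hsB x hx; rwa [hsi] at this
    comm := d.comm
    fixo := fun x hx => hbase (d.le (d.hA hx))
    mix := d.mulK
    five := hfive
    ptw := fun x hx p hp => by
      obtain ⟨c, hc, rfl⟩ := horb x hx
      rw [ho, smul_one_mk, smul_mk_eq]
      exact d.trivA a ha ha1 p hp c hc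
    orb := horb
    ker := fun c hc hfix => by
      obtain ⟨⟨y, hy, p, hp, e⟩, -⟩ := d.ker_decomp h hc fun e he =>
        (smul_mk_eq c e).1 (hfix _ (hbase' he _ (by rw [ho, smul_one_mk])))
      rw [hcore, mem_bot] at hy
      rw [e, hy, one_mul]; exact hp
    fuse := fun x hx hx1 => by
      obtain ⟨j, hj, hjB, e⟩ := d.fuse hb ha ha1 x hx hx1
      exact ⟨j, hbase hj, hjB, e⟩ }
  exact D.iso_alternating

variable {C : Type v} [Group C] [Finite C] {H : Subgroup C} {T : Sylow 2 C} {u : C} {P R : Subgroup C}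

/-- With an exchanging involution in `T` the group modulo `u` is the alternating group of degree nine. -/
theorem iso_of_swap (h : TwistC H T u) (h5 : FiveAt H u) (d : Core2.Pair H T u P R) [(zpowers u).Normal] {w : C}
    (hwT : w ∈ (T : Subgroup C)) (hw2 : orderOf w = 2) (hwu : w ≠ u)
    (hwP : ∀ q ∈ P, w * q * w⁻¹ ∈ R) (hwR : ∀ q ∈ R, w * q * w⁻¹ ∈ P) :
    Nonempty ((C ⧸ zpowers u) ≃* alternatingGroup (Fin 9)) := by
  set π := QuotientGroup.mk' (zpowers u)
  refine iso_of_sides (d.sides h h5) ?_ (s := π w) ?_ ⟨w, hw2, hwu, rfl⟩ ?_ ?_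
  · -- products of three commuting roots
    have hlift : ∀ t : C ⧸ zpowers u, t * t = 1 → t ≠ 1 → t ∉ Pair.liftable u → ∃ v, π v = t ∧ v * v = u := by
      intro t htt ht1 htK
      obtain ⟨v, rfl⟩ := QuotientGroup.mk'_surjective _ t
      rw [← map_mul] at htt
      refine ⟨v, rfl, ((Pair.eq_one_iff_u h).1 htt).resolve_left fun e => htK ?_⟩
      exact ⟨v, orderOf_two_iff.2 ⟨e, fun e' => ht1 ((Pair.eq_one_iff_u h).2 (Or.inl e'))⟩,
        fun e' => ht1 ((Pair.eq_one_iff_u h).2 (Or.inr e')), rfl⟩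
    intro t₁ t₂ t₃ q1 q2 q3 c12 c13 c23 k1 k2 k3 k12 k13 k23 n1 n2 n3 n12 n13 n23 n123
    obtain ⟨v₁, rfl, e1⟩ := hlift t₁ q1 n1 k1
    obtain ⟨v₂, rfl, e2⟩ := hlift t₂ q2 n2 k2
    obtain ⟨v₃, rfl, e3⟩ := hlift t₃ q3 n3 k3
    have hsq : ∀ {x y : C}, Commute (π x) (π y) → π x * π x = 1 → π y * π y = 1 → π x * π y ∉ Pair.liftable u →
        π x * π y ≠ 1 → x * x = u → y * y = u → y * x = x * y * u := by
      intro x y hc hx hy hk hne hxx hyy
      obtain ⟨v, hv, hvv⟩ := hlift _ (by rw [hc.symm.mul_mul_mul_comm, hx, hy, one_mul]) hne hk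
      have hxy : x * y * (x * y) = u := by
        rcases (Pair.eq_one_iff_u h).1 (show π (v⁻¹ * (x * y)) = 1 by
          rw [map_mul, map_inv, hv, map_mul, inv_mul_cancel]) with e | e
        · rw [← inv_mul_eq_one.1 e, hvv]
        · rw [inv_mul_eq_iff_eq_mul.1 e, show v * u * (v * u) = v * (u * v) * u by group, ← (h.cent v).eq,
            ← mul_assoc v v u, hvv, h.uu, one_mul]
      calc y * x = x⁻¹ * (x * y * (x * y)) * y⁻¹ := by group
        _ = x⁻¹ * (u * y⁻¹) := by rw [hxy]; group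
        _ = x * u * (u * (y * u)) := by
          rw [inv_eq_of_mul_eq_one_right (show x * (x * u) = 1 by rw [← mul_assoc, hxx, h.uu]),
            inv_eq_of_mul_eq_one_right (show y * (y * u) = 1 by rw [← mul_assoc, hyy, h.uu])]
        _ = x * (u * u) * y * u := by group
        _ = x * y * u := by rw [h.uu, mul_one]
    have a12 := hsq c12 q1 q2 k12 n12 e1 e2
    have a13 := hsq c13 q1 q3 k13 n13 e1 e3
    have a23 := hsq c23 q2 q3 k23 n23 e2 e3
    have hu : ∀ x : C, u * x = x * u := fun x => (h.cent x).eq.symm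
    have h3 : v₁ * v₂ * v₃ * (v₁ * v₂ * v₃) = 1 := by
      calc v₁ * v₂ * v₃ * (v₁ * v₂ * v₃) = v₁ * v₂ * (v₃ * v₁) * v₂ * v₃ := by group
        _ = v₁ * v₂ * v₁ * v₃ * (u * v₂) * v₃ := by rw [a13]; group
        _ = v₁ * (v₂ * v₁) * (v₃ * v₂) * (u * v₃) := by rw [hu v₂]; group
        _ = v₁ * v₁ * v₂ * (u * v₂) * v₃ * u * (v₃ * u) := by rw [a12, a23, hu v₃]; group
        _ = v₁ * v₁ * (v₂ * v₂) * u * v₃ * (u * v₃) * u := by rw [hu v₂]; group
        _ = v₁ * v₁ * (v₂ * v₂) * u * (v₃ * v₃) * (u * u) := by rw [hu v₃]; group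
        _ = 1 := by rw [e1, e2, e3, h.uu, one_mul, mul_one, h.uu]
    exact ⟨v₁ * v₂ * v₃, orderOf_two_iff.2 ⟨h3, fun e => n123 (by rw [← map_mul, ← map_mul, e, map_one])⟩,
      fun e => n123 (by rw [← map_mul, ← map_mul, e, (Pair.eq_one_iff_u h).2 (Or.inr rfl)]),
      by rw [map_mul, map_mul]⟩
  · rw [Sylow.coe_mapSurjective]; exact mem_map_of_mem _ hwT
  · rintro _ ⟨q, hq, rfl⟩
    rw [← map_inv, ← map_mul, ← map_mul]
    exact mem_map_of_mem _ (hwP q hq)
  · rintro _ ⟨q, hq, rfl⟩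
    rw [← map_inv, ← map_mul, ← map_mul]
    exact mem_map_of_mem _ (hwR q hq)

end Cfsg.Agent.Invol.ProperCore.TwistCase
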