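import Cfsg.Agent.Lib.Invol.ProperCore.TwistFacts
import Cfsg.Agent.Lib.Invol.ProperCore.TwistPairGraph
import Cfsg.Agent.S1291

/-!
# One central involution with a cover root: the odd cores are trivial

The graph of four-subgroups of the Sylow subgroup is connected and the group is balanced, so the odd core of every
involution centraliser is trivial; in particular `C(z)` is its own quotient by the odd core.
-/

set_option autoImplicit false
set_option linter.unusedSectionVars false
set_option linter.style.haveILetI false

namespace Cfsg.Agent.Invol.ProperCore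

open Subgroup Cfsg.Agent.Invol.Core2

universe u

variable {G : Type u} [Group G] [Finite G] [IsSimpleGroup G] {M W : Subgroup G} {S : Sylow 2 G} {z : G}

/-- With a cover root two components are exchanged, in symmetrical form. -/
theorem exists_pair (hna : ¬ IsMulCommutative G) (c : TwistPre M W S z)
    (hcov : ∃ v, CoverRoot (hBar M z) (uBar z) v) :
    ∃ Q R : Subgroup (CBar z), Pair (hBar M z) c.bar (uBar z) Q R := by
  obtain ⟨Q, R, a, hsp, hsq, -⟩ :=
    exists_swapPair S c.mem c.two_u c.cent c.uniq c.twistC c.twistC.fiveAt hcov c.sylowEquiv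
      (c.sylowEquiv_apply ⟨z, c.mem⟩) (fun x hx hx2 hxu hxc => c.conj_mul_fused hx hx2 hxu hxc)
      (exists_fused_simple hna c)
  exact ⟨Q, R, Pair.of_swapPair c.twistC hsp hsq⟩

theorem sylow_four_connected (hna : ¬ IsMulCommutative G) (c : TwistPre M W S z)
    (hcov : ∃ v, CoverRoot (hBar M z) (uBar z) v) : Cfsg.IsFourConnected ↥(S : Subgroup G) := by
  obtain ⟨Q, R, d⟩ := exists_pair hna c hcov
  have hT := d.four_connected c.twistC c.twistC.fiveAt
  intro U V hU hV
  have e : ∀ A : Subgroup ↥(S : Subgroup G),
      (A.map c.sylowEquiv.toMonoidHom).map c.sylowEquiv.symm.toMonoidHom = A := fun A => by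
    rw [Subgroup.map_map, show c.sylowEquiv.symm.toMonoidHom.comp c.sylowEquiv.toMonoidHom = MonoidHom.id _ from
      MonoidHom.ext fun x => c.sylowEquiv.symm_apply_apply x, Subgroup.map_id]
  have h1 := Fus.FourGraph.reach_map c.sylowEquiv.symm.toMonoidHom c.sylowEquiv.symm.injective
    (hT _ _ (Fus.FourGraph.isKleinFour_map c.sylowEquiv.toMonoidHom c.sylowEquiv.injective hU)
      (Fus.FourGraph.isKleinFour_map c.sylowEquiv.toMonoidHom c.sylowEquiv.injective hV))
  rw [e, e] at h1
  exact h1

/-- The odd cores of the involution centralisers are trivial. -/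
theorem coreC_eq_bot (hna : ¬ IsMulCommutative G) (c : TwistPre M W S z)
    (hcov : ∃ v, CoverRoot (hBar M z) (uBar z) v) {t : G} (ht : orderOf t = 2) : coreC t = ⊥ := by
  haveI : Fact (Nat.Prime 2) := ⟨Nat.prime_two⟩
  refine Cfsg.Agent.S1291.result (balanced hna c) (GW.CentralFour.pPrimeCore_eq_bot (even_card hna)) ?_
    (Or.inr ⟨S, sylow_four_connected hna c hcov⟩) t ht
  obtain ⟨E, -, hE, hE8⟩ := c.eight
  intro hle
  have := hle E hE.1 hE.2
  omega

/-- The centraliser is isomorphic to its quotient by the odd core. -/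
theorem toCBar_bijective (hna : ¬ IsMulCommutative G) (c : TwistPre M W S z)
    (hcov : ∃ v, CoverRoot (hBar M z) (uBar z) v) : Function.Bijective (toCBar z) := by
  refine ⟨(injective_iff_map_eq_one _).2 fun x hx => Subtype.ext ?_, toCBar_surjective z⟩
  have h1 := toCBar_eq_one.1 hx
  rwa [coreC_eq_bot hna c hcov c.two_u, mem_bot] at h1

end Cfsg.Agent.Invol.ProperCore
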