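import Cfsg.Agent.Lib.Invol.ProperCore.Main
import Cfsg.Agent.Lib.Invol.ProperCore.TwistBottomCase
import Cfsg.Agent.Lib.Invol.ProperCore.TwistCores
import Cfsg.Agent.Lib.Invol.ProperCore.TwistCaseLocal
import Cfsg.Agent.S1645

/-!
# A proper 2-generated core with one central involution

Without a cover root there is a strongly embedded subgroup. With one, two quaternion groups of cover roots are
exchanged. If no involution exchanges them, the element interchanging `u` with a product of two roots carries an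
anticommuting pair to one with a commutator outside `⟨u⟩`, which is absurd; if one does, the centraliser of `u` is
`2 · A₉`, which no simple group has.
-/

set_option autoImplicit false
set_option linter.unusedSectionVars false
set_option linter.style.haveILetI false

namespace Cfsg.Agent.Invol.ProperCore.TwistCase

open Subgroup Core2

universe v

variable {G : Type v} [Group G] [Finite G] {M W : Subgroup G} {S : Sylow 2 G} {u : G}

/-- Some involution of the Sylow subgroup exchanges the two groups. -/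
theorem exists_swap [IsSimpleGroup G] (hna : ¬ IsMulCommutative G) (c : TwistPre M W S u)
    {Q R : Subgroup (CBar u)} (d : Core2.Pair (hBar M u) c.bar (uBar u) Q R) :
    ∃ w ∈ (c.bar : Subgroup (CBar u)), orderOf w = 2 ∧ w ≠ uBar u ∧ (∀ q ∈ Q, w * q * w⁻¹ ∈ R) ∧
      ∀ q ∈ R, w * q * w⁻¹ ∈ Q := by
  classical
  by_contra hno
  push Not at hno
  haveI : Fact (Nat.Prime 2) := ⟨Nat.prime_two⟩
  have h := c.twistC
  have h5 := h.fiveAt
  haveI := h.zpowers_normal
  have dS := d.sides h h5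
  set π := QuotientGroup.mk' (zpowers (uBar u)) with hπ
  have hprod : ∀ w ∈ (c.bar : Subgroup (CBar u)), orderOf w = 2 → w ≠ uBar u →
      ∃ q ∈ Q, ∃ r ∈ R, q * q = uBar u ∧ r * r = uBar u ∧ w = q * r := by
    intro w hw hw2 hwu
    refine d.stable_invol h h5 hw hw2 hwu ?_
    rcases d.stab w hw with hs | hs
    · exact hs.2
    · obtain ⟨p, hp, hp'⟩ := hno w hw hw2 hwu hs.1
      exact absurd (hs.2 p hp) hp'
  -- the root product central modulo `u`
  obtain ⟨a, hfix⟩ := dS.exists_fixed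
  obtain ⟨g, hg, hgA, hgB⟩ := dS.swap
  obtain ⟨hb, -, hcen⟩ := dS.fixed_conj hfix hg hgA hgB
  obtain ⟨q, hq, hqa⟩ := hfix.1
  obtain ⟨r, hr, hrb⟩ := hb.1
  have hqq : q * q = uBar u := d.root_of_ne h hq (by rw [← hπ, hqa]; exact hfix.2.1)
  have hrr : r * r = uBar u := d.symm.root_of_ne h hr (by rw [← hπ, hrb]; exact hb.2.1)
  obtain ⟨q1, hq1, hq1q, hqanti, -⟩ := d.exists_anti h hq hqq
  obtain ⟨r1, hr1, hr1r, hranti, -⟩ := d.symm.exists_anti h hr hrr
  have hu : ∀ x : CBar u, uBar u * x = x * uBar u := fun x => (h.cent x).eq.symm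
  have hrr1 : r * r1 * (r * r1) = uBar u ∧ r * r1 * r = r * (r * r1) * uBar u ∧
      r * r1 * r1 = r1 * (r * r1) * uBar u := by
    refine ⟨?_, ?_, ?_⟩
    · calc r * r1 * (r * r1) = r * (r1 * r) * r1 := by group
        _ = r * r * r1 * (uBar u * r1) := by rw [hranti]; group
        _ = r * r * (r1 * r1) * uBar u := by rw [hu r1]; group
        _ = uBar u := by rw [hrr, hr1r, h.uu, one_mul]
    · rw [mul_assoc, hranti]; group
    · calc r * r1 * r1 = r * r1 * (uBar u * uBar u) * r1 := by rw [h.uu, mul_one]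
        _ = (r * r1 * uBar u) * (uBar u * r1) := by group
        _ = r1 * r * (r1 * uBar u) := by rw [hu r1, ← hranti]
        _ = r1 * (r * r1) * uBar u := by group
  have hm := mul_mem hr hr1
  have hlift : ∀ {a b : CBar u}, a ∈ Q → b ∈ R → a * a = uBar u → b * b = uBar u →
      ∃ s : ↥(centralizer ({u} : Set G)), (s : G) ∈ (S : Subgroup G) ∧ orderOf (s : G) = 2 ∧ (s : G) ≠ u ∧
        toCBar u s = a * b := by
    intro a b ha hb' haa hbb
    obtain ⟨s, hs, e⟩ := c.exists_lift_sylow (mul_mem (d.leT ha) (d.leR hb'))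
    obtain ⟨h2, hne, -⟩ := d.mul_invol h ha hb' haa hbb
    refine ⟨s, hs, orderOf_two_iff.2 ⟨c.inj (k := s * s) (mul_mem hs hs) ?_, fun e' => ne_one_of_orderOf_two h2 ?_⟩,
      fun e' => hne ?_, e⟩
    · rw [map_mul, e, mul_self_of_orderOf_two h2]
    · rw [← e, show s = 1 from Subtype.ext e', map_one]
    · rw [← e]; exact congrArg (toCBar u) (Subtype.ext e')
  obtain ⟨f, hf, hf2, hfu, hfe⟩ := hlift hq hr hqq hrr
  obtain ⟨x, hx, hx2, -, hxe⟩ := hlift hq1 hr1 hq1q hr1r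
  obtain ⟨y, hy, hy2, -, hye⟩ := hlift hq1 hm hq1q hrr1.1
  have hrel : ∀ {s t : ↥(centralizer ({u} : Set G))}, (s : G) ∈ (S : Subgroup G) → (t : G) ∈ (S : Subgroup G) →
      toCBar u s = toCBar u t → (s : G) = t := fun hs ht e => c.eq_of_bar_eq hs ht e
  have hxf : Commute (x : G) f := hrel (s := x * f) (t := f * x) (mul_mem hx hf) (mul_mem hf hx) (by
    rw [map_mul, map_mul, hxe, hfe]
    exact (Pair.commute_anti_mul h hqanti hranti (d.comm q1 hq1 r hr).symm (d.comm q hq r1 hr1).symm).eq.symm)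
  have hyf : Commute (y : G) f := hrel (s := y * f) (t := f * y) (mul_mem hy hf) (mul_mem hf hy) (by
    rw [map_mul, map_mul, hye, hfe]
    exact (Pair.commute_anti_mul h hqanti hrr1.2.1 (d.comm q1 hq1 r hr).symm (d.comm q hq _ hm).symm).eq.symm)
  have hxy : (y : G) * x = x * y * u := hrel (s := y * x) (t := x * y * ⟨u, mem_centralizer_singleton_iff.2 rfl⟩)
    (mul_mem hy hx) (mul_mem (mul_mem hx hy) c.mem) (by
      rw [map_mul, map_mul, map_mul, hxe, hye, ← uBar]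
      calc q1 * (r * r1) * (q1 * r1) = q1 * ((r * r1) * q1) * r1 := by group
        _ = q1 * q1 * (r * r1 * r1) := by rw [← (d.comm q1 hq1 _ hm).eq]; group
        _ = q1 * (q1 * r1) * (r * r1) * uBar u := by rw [hrr1.2.2]; group
        _ = q1 * (r1 * q1) * (r * r1) * uBar u := by rw [(d.comm q1 hq1 r1 hr1).eq]
        _ = q1 * r1 * (q1 * (r * r1)) * uBar u := by group)
  -- the subgroup of index two
  have hcen' : ∀ s ∈ (S : Subgroup G), s * f * s⁻¹ = f ∨ s * f * s⁻¹ = f * u := by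
    intro s hs
    obtain ⟨s', hs'⟩ : ∃ s' : ↥(centralizer ({u} : Set G)), (s' : G) = s := ⟨⟨s, c.le_cent hs⟩, rfl⟩
    have h1 : Commute (π (toCBar u s')) (π (q * r)) := by
      rw [map_mul, hqa, hrb]
      exact hcen _ (by rw [Sylow.coe_mapSurjective]; exact mem_map_of_mem _ (c.mem_bar (hs' ▸ hs)))
    rw [← hs'] at hs ⊢
    rcases (Pair.commute_iff h).1 h1 with e | e
    · exact Or.inl (hrel (s := s' * f * s'⁻¹) (t := f) (mul_mem (mul_mem hs hf) (inv_mem hs)) hf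
        (by rw [map_mul, map_mul, map_inv, hfe, e]))
    · exact Or.inr (hrel (s := s' * f * s'⁻¹) (t := f * ⟨u, mem_centralizer_singleton_iff.2 rfl⟩)
        (mul_mem (mul_mem hs hf) (inv_mem hs)) (mul_mem hf c.mem)
        (by rw [map_mul, map_mul, map_inv, map_mul, hfe, e, ← uBar]))
  obtain ⟨Cuf, hCuf⟩ : ∃ K : Subgroup G, K = centralizer ({u} : Set G) ⊓ centralizer ({(f : G)} : Set G) := ⟨_, rfl⟩
  have hmemC : ∀ {k : G}, k ∈ Cuf ↔ Commute k u ∧ Commute k (f : G) := fun {k} => by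
    rw [hCuf, mem_inf, mem_C, mem_C]
  set R0 := (S : Subgroup G) ⊓ centralizer ({(f : G)} : Set G) with hR0
  have hR0C : R0 ≤ Cuf := fun k hk => hmemC.2 ⟨c.cent k hk.1, mem_C.1 hk.2⟩
  obtain ⟨P, hP⟩ := ((S.isPGroup'.to_le (inf_le_left : R0 ≤ (S : Subgroup G))).comap_subtype (K := Cuf)).exists_le_sylow
  have hmax : ∀ k : ↥Cuf, k ∈ (P : Subgroup ↥Cuf) → (k : G) ∈ (S : Subgroup G) := by
    intro k hk
    set P' := (P : Subgroup ↥Cuf).map Cuf.subtype with hP'
    have hR0P : R0 ≤ P' := fun w hw => ⟨⟨w, hR0C hw⟩, hP hw, rfl⟩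
    have hP'C : P' ≤ centralizer ({u} : Set G) := fun w hw => mem_C.2 (hmemC.1 (map_subtype_le _ hw)).1
    by_contra hkS
    have hlt : Nat.card R0 < Nat.card P' := (card_le_of_le hR0P).lt_of_ne fun e =>
      hkS ((eq_of_le_of_card_ge hR0P e.ge).ge (mem_map_of_mem _ hk)).1
    obtain ⟨m, hm'⟩ := exists_conj_subset_sylow ((P.isPGroup'.map Cuf.subtype).comap_subtype
      (K := centralizer ({u} : Set G))) (S.subtype c.le_cent)
    set P'' := P'.map (MulAut.conj (m : G)).toMonoidHom with hP''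
    have hle : P'' ≤ (S : Subgroup G) := by
      rintro _ ⟨w, hw, rfl⟩
      exact hm' ⟨w, hP'C hw⟩ hw
    obtain ⟨s0, hs0, hs0f⟩ : ∃ s0 ∈ (S : Subgroup G), ¬ Commute s0 (f : G) := by
      by_contra hcon
      push Not at hcon
      exact hfu (c.uniq f hf hf2 hcon)
    have hidx : (R0.subgroupOf (S : Subgroup G)).index = 2 := by
      have hs0' : s0 * f * s0⁻¹ = f * u := (hcen' s0 hs0).resolve_left fun e => hs0f (mul_inv_eq_iff_eq_mul.1 e)
      have hcomm : ∀ w : ↥(S : Subgroup G), w ∈ R0.subgroupOf (S : Subgroup G) ↔ (w : G) * f * (w : G)⁻¹ = f := fun w =>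
        ⟨fun hw => by rw [(show Commute (w : G) f from mem_C.1 hw.2).eq, mul_inv_cancel_right],
          fun hw => ⟨w.2, mem_C.2 (mul_inv_eq_iff_eq_mul.1 hw)⟩⟩
      refine index_eq_two_iff.2 ⟨⟨s0, hs0⟩, fun w => ?_⟩
      have hne : (f : G) * u ≠ f := fun e => ne_one_of_orderOf_two c.two_u (mul_eq_left.1 e)
      have hws : (w : G) * s0 * f * ((w : G) * s0)⁻¹ = (w : G) * f * (w : G)⁻¹ * u := by
        rw [show (w : G) * s0 * f * ((w : G) * s0)⁻¹ = (w : G) * (s0 * f * s0⁻¹) * (w : G)⁻¹ by group, hs0',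
          show (w : G) * (f * u) * (w : G)⁻¹ = (w : G) * f * (u * (w : G)⁻¹) by group,
          ← (c.cent _ (inv_mem w.2)).eq, ← mul_assoc]
      rw [hcomm, hcomm, Subgroup.coe_mul, hws]
      rcases hcen' _ w.2 with e | e <;> rw [e]
      · exact Or.inr ⟨rfl, hne⟩
      · exact Or.inl ⟨by rw [mul_assoc, mul_self_of_orderOf_two c.two_u, mul_one], hne⟩
    have hcard : Nat.card (S : Subgroup G) = 2 * Nat.card R0 := by
      rw [← (R0.subgroupOf (S : Subgroup G)).index_mul_card, hidx,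
        Nat.card_congr (subgroupOfEquivOfLe (inf_le_left : R0 ≤ (S : Subgroup G))).toEquiv]
    have hPS : P'' = (S : Subgroup G) := by
      refine eq_of_le_of_card_ge hle ?_
      rw [hcard, hP'', card_map_of_injective (MulAut.conj (m : G)).injective]
      obtain ⟨j, hj⟩ := card_dvd_of_le hR0P
      rw [hj] at hlt ⊢
      rw [mul_comm 2]
      refine Nat.mul_le_mul_left _ ?_
      by_contra hj2
      exact absurd hlt (not_lt.2 ((Nat.mul_le_mul_left _ (show j ≤ 1 by omega)).trans (le_of_eq (mul_one _))))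
    have hfP : (f : G) ∈ P' := hR0P ⟨hf, mem_C.2 (Commute.refl _)⟩
    have h1 : (m : G) * f * (m : G)⁻¹ = u := c.uniq _ (hle (mem_map_of_mem _ hfP)) (by rw [orderOf_conj_eq, hf2])
      fun w hw => by
        obtain ⟨w', hw', rfl⟩ := hPS.ge hw
        exact commute_conj (hmemC.1 (map_subtype_le _ hw')).2
    refine hfu ?_
    calc (f : G) = (m : G)⁻¹ * ((m : G) * f * (m : G)⁻¹) * m := by group
      _ = u := by rw [h1, mul_assoc, ← (mem_C.1 m.2).eq, inv_mul_cancel_left]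
  -- an element interchanging `u` and `f`
  obtain ⟨k, hk, hku⟩ := m_fused hna c hf hf2
  have hkM : k⁻¹ * u * k ∈ M := mul_mem (mul_mem (inv_mem hk) (c.le c.mem)) hk
  have hk2 : orderOf (k⁻¹ * u * k) = 2 := by
    have := orderOf_conj_eq k⁻¹ u
    rwa [inv_inv, c.two_u] at this
  have hkc : Commute (k⁻¹ * u * k) u := by
    have h1 := (c.cent (f : G) hf).symm.map (MulAut.conj k⁻¹).toMonoidHom
    simp only [MulEquiv.coe_toMonoidHom, MulAut.conj_apply, inv_inv] at h1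
    rwa [show k⁻¹ * (f : G) * k = u by rw [← hku]; group] at h1
  have hkne : k⁻¹ * u * k ≠ u := fun e => hfu (by
    calc (f : G) = k * u * k⁻¹ := hku.symm
      _ = k * (k⁻¹ * u * k) * k⁻¹ := by rw [e]
      _ = u := by group)
  obtain ⟨l, -, hlu, hlf⟩ := class_one hna c hkM hk2 hkc hkne (c.le hf) hf2 (c.cent _ hf) hfu
  obtain ⟨n, hn⟩ : ∃ n, n = k * l := ⟨_, rfl⟩
  have hnu : n * u * n⁻¹ = f := by
    rw [hn, show k * l * u * (k * l)⁻¹ = k * (l * u * l⁻¹) * k⁻¹ by group, hlu.eq, mul_inv_cancel_right, hku]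
  have hnf : n * f * n⁻¹ = u := by
    rw [hn, show k * l * f * (k * l)⁻¹ = k * (l * f * l⁻¹) * k⁻¹ by group, hlf]
    group
  have hR0n : R0.map (MulAut.conj n).toMonoidHom ≤ Cuf := by
    rintro _ ⟨w, hw, rfl⟩
    refine hmemC.2 ⟨?_, ?_⟩
    · have := commute_conj (g := n) (mem_C.1 hw.2)
      rwa [hnf] at this
    · have := commute_conj (g := n) (c.cent w hw.1)
      rwa [hnu] at this
  obtain ⟨e, he⟩ := exists_conj_subset_sylow (G := ↥Cuf)
    (((S.isPGroup'.to_le (inf_le_left : R0 ≤ (S : Subgroup G))).map (MulAut.conj n).toMonoidHom).comap_subtype) P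
  obtain ⟨he1, he2⟩ := hmemC.1 e.2
  obtain ⟨φ, hφ⟩ : ∃ φ : G →* G, φ = (MulAut.conj ((e : G) * n)).toMonoidHom := ⟨_, rfl⟩
  have hφa : ∀ w, φ w = (e : G) * (n * w * n⁻¹) * (e : G)⁻¹ := fun w => by
    rw [hφ, MulEquiv.coe_toMonoidHom, MulAut.conj_apply]; group
  have hφu : φ u = f := by rw [hφa, hnu, he2.eq, mul_inv_cancel_right]
  have hφR : ∀ w ∈ R0, φ w ∈ (S : Subgroup G) := fun w hw => by
    have h1 : n * w * n⁻¹ ∈ R0.map (MulAut.conj n).toMonoidHom := ⟨w, hw, rfl⟩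
    rw [hφa]
    exact hmax _ (he ⟨_, hR0n h1⟩ h1)
  have hxR : (x : G) ∈ R0 := ⟨hx, mem_C.2 hxf⟩
  have hyR : (y : G) ∈ R0 := ⟨hy, mem_C.2 hyf⟩
  have himg : φ (y : G) * φ (x : G) = φ (x : G) * φ (y : G) * f := by rw [← map_mul, hxy, map_mul, map_mul, hφu]
  -- but their images commute modulo `u`
  have hform : ∀ w : ↥(centralizer ({u} : Set G)), (w : G) ∈ (S : Subgroup G) → orderOf (w : G) = 2 →
      ∃ q ∈ Q, ∃ r ∈ R, π (toCBar u w) = π q * π r := by
    intro w hw hw2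
    by_cases hwu : (w : G) = u
    · refine ⟨1, one_mem _, 1, one_mem _, ?_⟩
      rw [map_one, mul_one, show w = ⟨u, mem_centralizer_singleton_iff.2 rfl⟩ from Subtype.ext hwu, ← uBar]
      exact (Pair.eq_one_iff_u h).2 (Or.inr rfl)
    · obtain ⟨q, hq, r, hr, -, -, e⟩ := hprod _ (c.mem_bar hw) (c.bar_ne hw2 hwu).1 (c.bar_ne hw2 hwu).2
      exact ⟨q, hq, r, hr, by rw [e, map_mul]⟩
  obtain ⟨x', hx'⟩ : ∃ x' : ↥(centralizer ({u} : Set G)), (x' : G) = φ (x : G) :=
    ⟨⟨_, c.le_cent (hφR _ hxR)⟩, rfl⟩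
  obtain ⟨y', hy'⟩ : ∃ y' : ↥(centralizer ({u} : Set G)), (y' : G) = φ (y : G) :=
    ⟨⟨_, c.le_cent (hφR _ hyR)⟩, rfl⟩
  have hx'S : (x' : G) ∈ (S : Subgroup G) := hx' ▸ hφR _ hxR
  have hy'S : (y' : G) ∈ (S : Subgroup G) := hy' ▸ hφR _ hyR
  obtain ⟨qa, hqa', ra, hra, ea⟩ := hform x' hx'S (by rw [hx', hφ, MulEquiv.coe_toMonoidHom, MulEquiv.orderOf_eq, hx2])
  obtain ⟨qb, hqb, rb, hrb', eb⟩ := hform y' hy'S (by rw [hy', hφ, MulEquiv.coe_toMonoidHom, MulEquiv.orderOf_eq, hy2])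
  have hcomm : Commute (π (toCBar u y')) (π (toCBar u x')) := by
    rw [ea, eb]
    exact ((dS.commA (mem_map_of_mem _ hqb) (mem_map_of_mem _ hqa')).mul_right
      (dS.comm _ (mem_map_of_mem _ hqb) _ (mem_map_of_mem _ hra))).mul_left
      ((dS.comm _ (mem_map_of_mem _ hqa') _ (mem_map_of_mem _ hrb')).symm.mul_right
      (dS.symm.commA (mem_map_of_mem _ hrb') (mem_map_of_mem _ hra)))
  have hfine : ∀ t : G, φ (y : G) * φ (x : G) = φ (x : G) * φ (y : G) * t → t = f := fun t ht =>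
    mul_left_cancel (ht.symm.trans himg)
  rcases (Pair.commute_iff h).1 hcomm with e | e
  · have h1 := hrel (s := y' * x' * y'⁻¹) (t := x') (mul_mem (mul_mem hy'S hx'S) (inv_mem hy'S)) hx'S
      (by rw [map_mul, map_mul, map_inv, e])
    rw [Subgroup.coe_mul, Subgroup.coe_mul, Subgroup.coe_inv, hx', hy'] at h1
    exact ne_one_of_orderOf_two hf2 (hfine 1 (by rw [mul_one]; exact mul_inv_eq_iff_eq_mul.1 h1)).symm
  · have h1 := hrel (s := y' * x' * y'⁻¹) (t := x' * ⟨u, mem_centralizer_singleton_iff.2 rfl⟩)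
      (mul_mem (mul_mem hy'S hx'S) (inv_mem hy'S)) (mul_mem hx'S c.mem)
      (by rw [map_mul, map_mul, map_inv, map_mul, e, ← uBar])
    rw [Subgroup.coe_mul, Subgroup.coe_mul, Subgroup.coe_inv, Subgroup.coe_mul, hx', hy'] at h1
    refine hfu (hfine u ?_).symm
    rw [mul_inv_eq_iff_eq_mul.1 h1, mul_assoc, ← (c.cent _ (hy' ▸ hy'S)).eq, ← mul_assoc]

/-- With a cover root the centraliser of `u` is a nonsplit double cover of the alternating group of degree nine. -/
theorem double_cover [IsSimpleGroup G] (hna : ¬ IsMulCommutative G) (c : TwistPre M W S u)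
    (hcov : ∃ v, CoverRoot (hBar M u) (uBar u) v) :
    Cfsg.IsNonsplitDoubleCover ↥(centralizer ({u} : Set G)) (alternatingGroup (Fin 9)) := by
  classical
  have h := c.twistC
  haveI := h.zpowers_normal
  obtain ⟨Q, R, d⟩ := exists_pair hna c hcov
  obtain ⟨w, hwT, hw2, hwu, hwQ, hwR⟩ := exists_swap hna c d
  obtain ⟨ψ⟩ := iso_of_swap h h.fiveAt d hwT hw2 hwu hwQ hwR
  have hbij := toCBar_bijective hna c hcov
  let φ : ↥(centralizer ({u} : Set G)) →* alternatingGroup (Fin 9) :=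
    ψ.toMonoidHom.comp ((QuotientGroup.mk' (zpowers (uBar u))).comp (toCBar u))
  have hφs : Function.Surjective φ :=
    ψ.surjective.comp ((QuotientGroup.mk'_surjective _).comp hbij.2)
  obtain ⟨U, hU⟩ : ∃ U : ↥(centralizer ({u} : Set G)), U = ⟨u, mem_centralizer_singleton_iff.2 rfl⟩ := ⟨_, rfl⟩
  have hφ1 : ∀ {x}, φ x = 1 ↔ x = 1 ∨ x = U := fun {x} => by
    show ψ (QuotientGroup.mk' (zpowers (uBar u)) (toCBar u x)) = 1 ↔ _
    rw [ψ.map_eq_one_iff, Pair.eq_one_iff_u h, uBar, ← hU]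
    exact or_congr (map_eq_one_iff _ hbij.1) hbij.1.eq_iff
  have hUc : ∀ x : ↥(centralizer ({u} : Set G)), x * U = U * x := fun x =>
    hbij.1 (by rw [map_mul, map_mul, hU, ← uBar]; exact (h.cent _).eq)
  have hU2 : orderOf U = 2 := by rw [hU, Subgroup.orderOf_mk, c.two_u]
  have hcenter : center ↥(centralizer ({u} : Set G)) = zpowers U := by
    refine le_antisymm (fun x hx => ?_) (zpowers_le.2 (mem_center_iff.2 hUc))
    have h1 : φ x ∈ center (alternatingGroup (Fin 9)) := mem_center_iff.2 fun y => by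
      obtain ⟨y, rfl⟩ := hφs y
      rw [← map_mul, ← map_mul, mem_center_iff.1 hx y]
    rw [alternatingGroup.center_eq_bot (by rw [Nat.card_eq_fintype_card, Fintype.card_fin]; norm_num), mem_bot] at h1
    rcases hφ1.1 h1 with e | e <;> rw [e]
    exacts [one_mem _, mem_zpowers U]
  have hker : φ.ker = center ↥(centralizer ({u} : Set G)) := by
    rw [hcenter]
    refine le_antisymm (fun x hx => ?_) (zpowers_le.2 (MonoidHom.mem_ker.2 (hφ1.2 (Or.inr rfl))))
    rcases hφ1.1 (MonoidHom.mem_ker.1 hx) with e | e <;> rw [e]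
    exacts [one_mem _, mem_zpowers U]
  refine ⟨by rw [hcenter, Nat.card_zpowers, hU2],
    ⟨(QuotientGroup.quotientMulEquivOfEq hker.symm).trans (QuotientGroup.quotientKerEquivOfSurjective φ hφs)⟩,
    fun L hL => ?_⟩
  -- `u` is a commutator
  obtain ⟨q, hq, hqq⟩ := d.exists_root h
  obtain ⟨p, -, -, hpq, -⟩ := d.exists_anti h hq hqq
  obtain ⟨X, rfl⟩ := hbij.2 q
  obtain ⟨Y, rfl⟩ := hbij.2 p
  have hYX : Y * X = X * Y * U := hbij.1 (by rw [map_mul, map_mul, map_mul, hU, ← uBar]; exact hpq)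
  obtain ⟨⟨z₁, l₁⟩, e1, -⟩ := hL.existsUnique X
  obtain ⟨⟨z₂, l₂⟩, e2, -⟩ := hL.existsUnique Y
  have hc1 := mem_center_iff.1 z₁.2
  have hc2 := mem_center_iff.1 z₂.2
  have hmem : U ∈ L := by
    obtain ⟨a₁, ha₁⟩ : ∃ a₁, a₁ = (l₁ : ↥(centralizer ({u} : Set G))) := ⟨_, rfl⟩
    obtain ⟨a₂, ha₂⟩ : ∃ a₂, a₂ = (l₂ : ↥(centralizer ({u} : Set G))) := ⟨_, rfl⟩
    obtain ⟨b₁, hb₁⟩ : ∃ b₁, b₁ = (z₁ : ↥(centralizer ({u} : Set G))) := ⟨_, rfl⟩
    obtain ⟨b₂, hb₂⟩ : ∃ b₂, b₂ = (z₂ : ↥(centralizer ({u} : Set G))) := ⟨_, rfl⟩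
    have f1 : b₁ * a₁ = X := by rw [hb₁, ha₁]; exact e1
    have f2 : b₂ * a₂ = Y := by rw [hb₂, ha₂]; exact e2
    have g1 : ∀ w, Commute b₁ w := fun w => hb₁ ▸ (hc1 w).symm
    have g2 : ∀ w, Commute b₂ w := fun w => hb₂ ▸ (hc2 w).symm
    have k1 : Y * X = b₂ * b₁ * (a₂ * a₁) := by rw [← f1, ← f2, (g1 a₂).symm.mul_mul_mul_comm]
    have k2 : X * Y = b₂ * b₁ * (a₁ * a₂) := by rw [← f1, ← f2, (g2 a₁).symm.mul_mul_mul_comm, (g1 b₂).eq]
    rw [k1, k2, mul_assoc (b₂ * b₁)] at hYX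
    rw [eq_inv_mul_of_mul_eq (mul_left_cancel hYX).symm, ha₁, ha₂]
    exact mul_mem (inv_mem (mul_mem l₁.2 l₂.2)) (mul_mem l₂.2 l₁.2)
  have hbot : U ∈ center ↥(centralizer ({u} : Set G)) ⊓ L := ⟨hcenter ▸ mem_zpowers U, hmem⟩
  rw [hL.disjoint.eq_bot, mem_bot] at hbot
  exact ne_one_of_orderOf_two hU2 hbot

/-- A proper 2-generated core with one central involution. -/
theorem listed_of_twist : OneCentralStmt.{v} := by
  intro G _ _ _ hna M S z c
  by_cases hcov : ∃ v, CoverRoot (hBar M z) (uBar z) v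
  · exact absurd (Cfsg.Agent.S1645.result 9 (by norm_num) z c.two_u (double_cover hna c hcov)) (by norm_num)
  · exact listed_of_no_root hna c hcov

end Cfsg.Agent.Invol.ProperCore.TwistCase
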