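import Cfsg.Agent.Lib.Invol.ProperCore.TwistCaseNineUnion
import Cfsg.Agent.Lib.Invol.Core2.TwistFinishData

/-!
# Two exchanged fours: the alternating group of degree nine

The stabiliser of the nine points acts on them as the alternating group, so every involution in it has all its fixed
points among them; as every point is the only fixed point of a conjugate of `a * s a s`, which commutes with an
involution commuting with `a`, the nine points are all.
-/

set_option autoImplicit false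
set_option linter.unusedSectionVars false

namespace Cfsg.Agent.Invol.ProperCore.TwistCase

open Subgroup MulAction Core2

/-- Involutions of the alternating group with equally large supports are conjugate in it. -/
theorem exists_even_conj {α : Type*} [Fintype α] [DecidableEq α] {σ τ : Equiv.Perm α} (hσ : orderOf σ = 2)
    (hτ : orderOf τ = 2) (h : σ.support.card = τ.support.card) :
    ∃ π ∈ alternatingGroup α, π * σ * π⁻¹ = τ := by
  have key : σ.cycleType = τ.cycleType := by
    obtain ⟨n, hn⟩ := Equiv.Perm.cycleType_prime_order (σ := σ) (by rw [hσ]; exact Nat.prime_two)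
    obtain ⟨m, hm⟩ := Equiv.Perm.cycleType_prime_order (σ := τ) (by rw [hτ]; exact Nat.prime_two)
    rw [← Equiv.Perm.sum_cycleType, ← Equiv.Perm.sum_cycleType, hn, hm, Multiset.sum_replicate,
      Multiset.sum_replicate, hσ, hτ, smul_eq_mul, smul_eq_mul] at h
    rw [hn, hm, hσ, hτ, show n = m by omega]
  obtain ⟨π, hπ⟩ := _root_.isConj_iff.1 (Equiv.Perm.isConj_iff_cycleType_eq.2 key)
  rcases Int.units_eq_one_or (Equiv.Perm.sign π) with e | e
  · exact ⟨π, Equiv.Perm.mem_alternatingGroup.2 e, hπ⟩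
  obtain ⟨x, hx⟩ : ∃ x, σ x ≠ x := by
    by_contra hcon
    push Not at hcon
    rw [show σ = 1 from Equiv.ext hcon, orderOf_one] at hσ
    exact absurd hσ (by norm_num)
  have hσσ : ∀ y, σ (σ y) = y := fun y => by
    have h2 := pow_orderOf_eq_one σ
    rw [hσ, pow_two] at h2
    rw [← Equiv.Perm.mul_apply, h2, Equiv.Perm.one_apply]
  have hc : Equiv.swap x (σ x) * σ * (Equiv.swap x (σ x))⁻¹ = σ := by
    rw [mul_inv_eq_iff_eq_mul, Equiv.mul_swap_eq_swap_mul, hσσ, Equiv.swap_comm]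
  refine ⟨π * Equiv.swap x (σ x), Equiv.Perm.mem_alternatingGroup.2 ?_, ?_⟩
  · rw [map_mul, e, Equiv.Perm.sign_swap (Ne.symm hx)]
    norm_num
  · calc π * Equiv.swap x (σ x) * σ * (π * Equiv.swap x (σ x))⁻¹
        = π * (Equiv.swap x (σ x) * σ * (Equiv.swap x (σ x))⁻¹) * π⁻¹ := by group
      _ = τ := by rw [hc, hπ]

/-- An even involution on nine points moves four or eight. -/
theorem support_four_or_eight {α : Type*} [Fintype α] [DecidableEq α] (h9 : Fintype.card α = 9) {σ : Equiv.Perm α}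
    (hσ : orderOf σ = 2) (hs : Equiv.Perm.sign σ = 1) : σ.support.card = 4 ∨ σ.support.card = 8 := by
  obtain ⟨n, hn⟩ := Equiv.Perm.cycleType_prime_order (σ := σ) (by rw [hσ]; exact Nat.prime_two)
  have hsum : σ.support.card = 2 * (n + 1) := by
    rw [← Equiv.Perm.sum_cycleType, hn, hσ, Multiset.sum_replicate, smul_eq_mul, mul_comm]
  rw [Equiv.Perm.sign_of_cycleType, hn, hσ, Multiset.sum_replicate, Multiset.card_replicate, smul_eq_mul] at hs
  have hle := Finset.card_le_univ σ.support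
  rw [h9, hsum] at hle
  have : n ≤ 3 := by omega
  interval_cases n
  · exact absurd hs (by decide)
  · exact Or.inl hsum
  · exact absurd hs (by decide)
  · exact Or.inr hsum

variable {Γ X : Type*} [Group Γ] [MulAction Γ X] [Finite Γ] [Finite X]

namespace NineData

variable {L : Γ → Prop} {o : X} {A B : Subgroup Γ} {a s : Γ} (d : NineData L o A B a s)

include d

/-- The group is the alternating group of degree nine. -/
theorem iso_alternating : Nonempty (Γ ≃* alternatingGroup (Fin 9)) := by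
  classical
  set Y : Set X := union a s with hY
  set J := stab (X := X) a s with hJ
  set ρ := restrictHom J (fun x : X => x ∈ Y) fun g hg x => hg x with hρ
  haveI : Fintype {x : X // x ∈ Y} := Fintype.ofFinite _
  have h9 : Fintype.card {x : X // x ∈ Y} = 9 := by
    rw [← Nat.card_eq_fintype_card]
    exact (Nat.card_coe_set_eq Y).trans d.card_union
  have hinj : Function.Injective ρ := (injective_iff_map_eq_one ρ).2 fun g hg =>
    Subtype.ext (d.faithful fun y hy => congrArg Subtype.val (Equiv.ext_iff.1 hg ⟨y, hy⟩))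
  have hsupp : ∀ g : ↥J, (ρ g).support.card = {y ∈ Y | (g : Γ) • y ≠ y}.ncard := fun g => by
    rw [← Set.ncard_coe_finset, ← Set.ncard_image_of_injective _ Subtype.val_injective]
    congr 1
    ext y
    simp only [Set.mem_image, Finset.mem_coe, Equiv.Perm.mem_support, Set.mem_setOf_eq]
    refine ⟨?_, fun h => ⟨⟨y, h.1⟩, fun e => h.2 (congrArg Subtype.val e), rfl⟩⟩
    rintro ⟨x, hx, rfl⟩
    exact ⟨x.2, fun e => hx (Subtype.ext e)⟩
  have hoP := d.fixo a d.ha
  have hoY : o ∈ Y := Or.inl hoP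
  set ob : {x : X // x ∈ Y} := ⟨o, hoY⟩
  obtain ⟨z, w, -, -, -, hw3, hwo, hwA, hwfix, ⟨x1, hx1, hx1o, hwx1⟩, ⟨xm, hxm, hxm'⟩, -⟩ := d.exists_cycle
  -- transitivity
  have hto : ∀ y : {x : X // x ∈ Y}, ∃ g : ↥J, ρ g y = ob := fun y => by
    obtain ⟨g, hg, e⟩ := d.exists_to_base y.2
    exact ⟨⟨g, hg⟩, Subtype.ext e⟩
  obtain ⟨p0, hp0, hp0o⟩ := d.exists_moved
  set pb : {x : X // x ∈ Y} := ⟨p0, Or.inl hp0⟩
  have h2 : ∀ {y z : {x : X // x ∈ Y}}, y ≠ z → ∃ g : ↥J, ρ g y = ob ∧ ρ g z = pb := fun {y z} hne => by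
    obtain ⟨g, hg⟩ := hto y
    have hz : ((ρ g z : {x : X // x ∈ Y}) : X) ≠ o := fun e =>
      hne ((ρ g).injective (hg.trans (Subtype.ext e).symm))
    obtain ⟨k, hk, hko, hkz⟩ := d.exists_to_point hp0 hp0o (ρ g z).2 hz
    refine ⟨⟨k, hk⟩ * g, ?_, ?_⟩
    · rw [map_mul, Equiv.Perm.mul_apply, hg]; exact Subtype.ext hko
    · rw [map_mul, Equiv.Perm.mul_apply]; exact Subtype.ext hkz
  -- the three-cycle
  have hwJ : w ∈ J := d.centralizer_le_stab (hwA a d.ha)
  obtain ⟨W, hW⟩ : ∃ W : ↥J, (W : Γ) = w := ⟨⟨w, hwJ⟩, rfl⟩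
  have hord : orderOf (ρ W) = 3 := by
    haveI : Fact (Nat.Prime 3) := ⟨Nat.prime_three⟩
    refine orderOf_eq_prime ?_ fun e => hxm' ?_
    · rw [← map_pow, show W ^ 3 = 1 from Subtype.ext (by
        rw [pow_succ, pow_two, Subgroup.coe_mul, Subgroup.coe_mul, hW, hw3, Subgroup.coe_one]), map_one]
    · have h1 := congrArg Subtype.val (Equiv.ext_iff.1 e ⟨xm, Or.inl hxm⟩)
      rwa [restrictHom_apply, hW] at h1
  have hthree : (ρ W).IsThreeCycle := by
    rw [← card_support_eq_three_iff]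
    obtain ⟨n, hn⟩ := Equiv.Perm.cycleType_prime_order (σ := ρ W) (by rw [hord]; exact Nat.prime_three)
    have hsum : (ρ W).support.card = 3 * (n + 1) := by
      rw [← Equiv.Perm.sum_cycleType, hn, hord, Multiset.sum_replicate, smul_eq_mul, mul_comm]
    have hle : (ρ W).support.card ≤ 3 := by
      rw [hsupp, hW]
      have hsub : {y ∈ Y | w • y ≠ y} ⊆ {y : X | a • y = y} \ {o, x1} := fun y hy => by
        refine ⟨hy.1.resolve_right fun h => hy.2 (hwfix y h), ?_⟩
        rintro (e | e) <;> subst e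
        exacts [hy.2 hwo, hy.2 hwx1]
      refine (Set.ncard_le_ncard hsub).trans (le_of_eq ?_)
      have hpair : ({o, x1} : Set X) ⊆ {y : X | a • y = y} := by
        rintro y (rfl | rfl)
        exacts [hoP, hx1]
      rw [Set.ncard_sdiff hpair, d.five, Set.ncard_pair hx1o.symm]
    omega
  have hpre : MulAction.IsPreprimitive ↥ρ.range {x : X // x ∈ Y} := by
    refine MulAction.isPreprimitive_of_is_two_pretransitive (MulAction.is_two_pretransitive_iff.2 ?_)
    intro p q r t hpq hrt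
    obtain ⟨g, hgp, hgq⟩ := h2 hpq
    obtain ⟨k, hkr, hkt⟩ := h2 hrt
    refine ⟨⟨ρ (k⁻¹ * g), _, rfl⟩, ?_, ?_⟩
    · show ρ (k⁻¹ * g) p = r
      rw [map_mul, map_inv, Equiv.Perm.mul_apply, hgp, ← hkr, Equiv.Perm.inv_def, Equiv.symm_apply_apply]
    · show ρ (k⁻¹ * g) q = t
      rw [map_mul, map_inv, Equiv.Perm.mul_apply, hgq, ← hkt, Equiv.Perm.inv_def, Equiv.symm_apply_apply]
  have halt : alternatingGroup {x : X // x ∈ Y} ≤ ρ.range :=
    Equiv.Perm.alternatingGroup_le_of_isPreprimitive_of_isThreeCycle_mem hpre hthree ⟨W, rfl⟩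
  -- no transposition
  have hne : ρ.range ≠ ⊤ := by
    intro etop
    let e9 : Fin 9 ≃ {x : X // x ∈ Y} := (Fintype.equivFinOfCardEq h9).symm
    let φ : Equiv.Perm (Fin 9) →* Equiv.Perm {x : X // x ∈ Y} := e9.permCongrHom.toMonoidHom
    have hφ : Function.Injective φ := e9.permCongrHom.injective
    have hex : ∀ π : Equiv.Perm (Fin 9), ∃ g : ↥J, ρ g = φ π := fun π => by
      have h : φ π ∈ ρ.range := etop ▸ mem_top _
      exact h
    choose t ht using hex
    have hmul : ∀ π π', t (π * π') = t π * t π' := fun π π' => hinj (by rw [map_mul, ht, ht, ht, map_mul])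
    have hone : t 1 = 1 := hinj (by rw [ht, map_one, map_one])
    have hfixed : ∀ π, π 6 = 6 → π 7 = 7 → ¬ L ((t π : ↥J) : Γ) := fun π h6 h7 => by
      have h1 : ∀ i, π i = i → ((t π : ↥J) : Γ) • (e9 i : X) = e9 i := fun i hi => by
        have h2 : ((t π : ↥J) : Γ) • (e9 i : X) = ((ρ (t π) (e9 i) : {x : X // x ∈ Y}) : X) := rfl
        rw [h2, ht]
        show (e9 (π (e9.symm (e9 i))) : X) = _
        rw [Equiv.symm_apply_apply, hi]
      exact d.not_L_of_two (h1 6 h6) (h1 7 h7) fun h => absurd (e9.injective (Subtype.ext h)) (by decide)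
    have hne1 : ∀ π, π ≠ 1 → ((t π : ↥J) : Γ) ≠ 1 := fun π hπ e => hπ (hφ (by
      rw [← ht, show t π = 1 from Subtype.ext e, map_one, map_one]))
    have hsq : ∀ π, π * π = 1 → ((t π : ↥J) : Γ) * t π = 1 := fun π h => by
      rw [← Subgroup.coe_mul, ← hmul, h, hone, Subgroup.coe_one]
    have hcomm : ∀ π π', π * π' = π' * π → Commute ((t π : ↥J) : Γ) (t π') := fun π π' h => by
      show ((t π : ↥J) : Γ) * t π' = t π' * t π
      rw [← Subgroup.coe_mul, ← hmul, h, hmul, Subgroup.coe_mul]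
    obtain ⟨p, hp⟩ : ∃ p : Equiv.Perm (Fin 9), p = Equiv.swap 0 1 := ⟨_, rfl⟩
    obtain ⟨q, hq⟩ : ∃ q : Equiv.Perm (Fin 9), q = Equiv.swap 2 3 := ⟨_, rfl⟩
    obtain ⟨r, hr⟩ : ∃ r : Equiv.Perm (Fin 9), r = Equiv.swap 4 5 := ⟨_, rfl⟩
    have hcoe : ∀ π π', ((t π : ↥J) : Γ) * t π' = (t (π * π') : ↥J) := fun π π' => by
      rw [hmul, Subgroup.coe_mul]
    refine hfixed (p * q * r) (by subst hp hq hr; decide) (by subst hp hq hr; decide) ?_
    rw [← hcoe, ← hcoe]
    refine d.trip _ _ _ (hsq p (by subst hp; decide)) (hsq q (by subst hq; decide)) (hsq r (by subst hr; decide))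
      (hcomm p q (by subst hp hq; decide)) (hcomm p r (by subst hp hr; decide)) (hcomm q r (by subst hq hr; decide))
      (hfixed p (by subst hp; decide) (by subst hp; decide)) (hfixed q (by subst hq; decide) (by subst hq; decide))
      (hfixed r (by subst hr; decide) (by subst hr; decide)) ?_ ?_ ?_ (hne1 p (by subst hp; decide))
      (hne1 q (by subst hq; decide)) (hne1 r (by subst hr; decide)) ?_ ?_ ?_ ?_
    all_goals simp only [hcoe]
    exacts [hfixed _ (by subst hp hq; decide) (by subst hp hq; decide),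
      hfixed _ (by subst hp hr; decide) (by subst hp hr; decide),
      hfixed _ (by subst hq hr; decide) (by subst hq hr; decide),
      hne1 _ (by subst hp hq; decide), hne1 _ (by subst hp hr; decide), hne1 _ (by subst hq hr; decide),
      hne1 _ (by subst hp hq hr; decide)]
  have heq : ρ.range = alternatingGroup {x : X // x ∈ Y} := by
    haveI : Nontrivial {x : X // x ∈ Y} := Fintype.one_lt_card_iff_nontrivial.1 (by omega)
    have hd : ρ.range.index ∣ 2 := alternatingGroup.index_eq_two (α := {x : X // x ∈ Y}) ▸ index_dvd_of_le halt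
    rcases (Nat.dvd_prime Nat.prime_two).1 hd with e | e
    · exact absurd (index_eq_one.1 e) hne
    · exact Equiv.Perm.eq_alternatingGroup_of_index_eq_two e
  have hsign : ∀ g : ↥J, Equiv.Perm.sign (ρ g) = 1 := fun g =>
    Equiv.Perm.mem_alternatingGroup.1 (heq ▸ ⟨g, rfl⟩)
  -- the two classes of involutions
  have hb := d.b_mem
  have hb1 := d.conj_s_ne d.a1
  set b := s * a * s
  obtain ⟨f, hf⟩ : ∃ f, f = a * b := ⟨_, rfl⟩
  have hfL : L f := hf ▸ d.mix a d.ha d.a1 b hb hb1
  have hfo : f • o = o := by rw [hf, mul_smul, d.fixoB hb, hoP]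
  have hff : f * f = 1 := by rw [hf, (d.comm a d.ha b hb).symm.mul_mul_mul_comm, d.A2 a d.ha, d.B2 hb, one_mul]
  have hfuniq : ∀ x : X, f • x = x → x = o := fun x hx => d.lfix f hfL x o hx hfo
  have hfne : f ≠ 1 := fun e => hp0o (hfuniq p0 (by rw [e, one_smul]))
  have haJ : a ∈ J := d.A_le_stab d.ha
  have hfJ : f ∈ J := hf ▸ mul_mem haJ (d.B_le_stab hb)
  have hsa : (ρ ⟨a, haJ⟩).support.card = 4 := by
    rw [hsupp, show {y ∈ Y | (a : Γ) • y ≠ y} = Y \ {x | a • x = x} from rfl,
      Set.ncard_sdiff (show {x : X | a • x = x} ⊆ Y from fun x hx => Or.inl hx), d.card_union, d.five]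
  have hsf : (ρ ⟨f, hfJ⟩).support.card = 8 := by
    have he : {y ∈ Y | f • y ≠ y} = Y \ {o} := by
      ext y
      exact ⟨fun h => ⟨h.1, fun e => h.2 (by rw [Set.mem_singleton_iff.1 e, hfo])⟩,
        fun h => ⟨h.1, fun e => h.2 (hfuniq y e)⟩⟩
    rw [hsupp, show {y ∈ Y | ((⟨f, hfJ⟩ : ↥J) : Γ) • y ≠ y} = {y ∈ Y | f • y ≠ y} from rfl, he,
      Set.ncard_sdiff_singleton_of_mem hoY, d.card_union]
  have hinv2 : ∀ g : ↥J, (g : Γ) * g = 1 → (g : Γ) ≠ 1 → orderOf (ρ g) = 2 := fun g h h1 => by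
    haveI : Fact (Nat.Prime 2) := ⟨Nat.prime_two⟩
    refine orderOf_eq_prime ?_ fun e => h1 ?_
    · rw [pow_two, ← map_mul, show g * g = 1 from Subtype.ext h, map_one]
    · rw [show g = 1 from hinj (by rw [e, map_one]), Subgroup.coe_one]
  have hclass : ∀ g : ↥J, (g : Γ) * g = 1 → (g : Γ) ≠ 1 →
      ∃ k ∈ J, (g : Γ) = k * a * k⁻¹ ∨ (g : Γ) = k * f * k⁻¹ := fun g h h1 => by
    have key : ∀ y : ↥J, orderOf (ρ y) = 2 → (ρ y).support.card = (ρ g).support.card →
        ∃ k ∈ J, (g : Γ) = k * y * k⁻¹ := fun y hy he => by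
      obtain ⟨π, hπ, e⟩ := exists_even_conj hy (hinv2 g h h1) he
      obtain ⟨k, rfl⟩ : π ∈ ρ.range := heq ▸ hπ
      rw [← map_inv, ← map_mul, ← map_mul] at e
      exact ⟨k, k.2, (congrArg Subtype.val (hinj e)).symm⟩
    rcases support_four_or_eight h9 (hinv2 g h h1) (hsign g) with e | e
    · obtain ⟨k, hk, e'⟩ := key ⟨a, haJ⟩ (hinv2 ⟨a, haJ⟩ (d.A2 a d.ha) d.a1) (hsa.trans e.symm)
      exact ⟨k, hk, Or.inl e'⟩
    · obtain ⟨k, hk, e'⟩ := key ⟨f, hfJ⟩ (hinv2 ⟨f, hfJ⟩ hff hfne) (hsf.trans e.symm)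
      exact ⟨k, hk, Or.inr e'⟩
  -- the nine points are all
  have hall : ∀ x : X, x ∈ Y := by
    intro x
    obtain ⟨g, hg⟩ := d.trans x
    obtain ⟨y, hy⟩ : ∃ y, y = g * f * g⁻¹ := ⟨_, rfl⟩
    have hyx : y • x = x := by rw [hy, mul_smul, mul_smul, ← hg, inv_smul_smul, hfo]
    have hyuniq : ∀ p : X, y • p = p → p = x := fun p hp => by
      rw [hy, mul_smul, mul_smul, ← eq_inv_smul_iff] at hp
      rw [← hg, ← hfuniq _ hp, smul_inv_smul]
    have hy2 : orderOf y = 2 := by rw [hy, orderOf_conj_eq]; exact orderOf_two_iff.2 ⟨hff, hfne⟩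
    obtain ⟨z₀, hz2, hza, hzy, -⟩ := exists_central_pair (orderOf_two_iff.2 ⟨d.A2 a d.ha, d.a1⟩) hy2 fun hc => by
      obtain ⟨k, hk⟩ := _root_.isConj_iff.1 hc
      have h1 : ∀ p : X, a • p = p → y • (k • p) = k • p := fun p hp => by
        rw [← hk, mul_smul, mul_smul, inv_smul_smul, hp]
      exact hp0o (MulAction.injective k ((hyuniq _ (h1 p0 hp0)).trans (hyuniq _ (h1 o hoP)).symm))
    have hzJ : z₀ ∈ J := d.centralizer_le_stab hza
    obtain ⟨k, hk, hzk⟩ := hclass ⟨z₀, hzJ⟩ (mul_self_of_orderOf_two hz2) (ne_one_of_orderOf_two hz2)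
    set F : Set X := {p | z₀ • p = p}
    have hFk : ∀ {v : Γ}, z₀ = k * v * k⁻¹ → F = (k • ·) '' {p | v • p = p} := fun {v} e => by
      ext p
      constructor
      · intro hp
        refine ⟨k⁻¹ • p, ?_, smul_inv_smul k p⟩
        have hp' : z₀ • p = p := hp
        rw [e, mul_smul, mul_smul, ← eq_inv_smul_iff] at hp'
        exact hp'
      · rintro ⟨q, hq, rfl⟩
        show z₀ • k • q = k • q
        rw [e, mul_smul, mul_smul, inv_smul_smul, hq]
    have hF : F ⊆ Y ∧ Odd F.ncard := by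
      rcases hzk with e | e
      · rw [hFk e, Set.ncard_image_of_injective _ (MulAction.injective k), d.five]
        exact ⟨by rintro _ ⟨q, hq, rfl⟩; exact (hk q).2 (Or.inl hq), by decide⟩
      · rw [hFk e, show {p : X | f • p = p} = {o} from Set.ext fun p => ⟨hfuniq p, fun e => by
          rw [Set.mem_singleton_iff.1 e]; exact hfo⟩, Set.image_singleton, Set.ncard_singleton]
        exact ⟨Set.singleton_subset_iff.2 ((hk o).2 hoY), by decide⟩
    have hyF : ∀ p ∈ F, y • p ∈ F := fun p hp => by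
      show z₀ • y • p = y • p
      rw [smul_smul, hzy.eq, mul_smul, show z₀ • p = p from hp]
    obtain ⟨p, hp, hyp⟩ : ∃ p ∈ F, y • p = p := by
      by_contra hcon
      push Not at hcon
      haveI : Fintype F := Fintype.ofFinite F
      have hyy := mul_self_of_orderOf_two hy2
      let π : Equiv.Perm F := Function.Involutive.toPerm (fun p => ⟨y • (p : X), hyF p p.2⟩)
        fun p => Subtype.ext (by show y • y • (p : X) = p; rw [smul_smul, hyy, one_smul])
      have h1 := Five.even_support_of_sq π fun p => Subtype.ext (by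
        show y • y • (p : X) = p; rw [smul_smul, hyy, one_smul])
      rw [show π.support = Finset.univ from Finset.eq_univ_iff_forall.2 fun p => Equiv.Perm.mem_support.2
        fun e => hcon p p.2 (congrArg Subtype.val e), Finset.card_univ, ← Nat.card_eq_fintype_card,
        Nat.card_coe_set_eq] at h1
      exact (Nat.not_even_iff_odd.2 hF.2) h1
    exact hyuniq p hyp ▸ hF.1 hp
  -- so the stabiliser is everything
  have htop : ∀ g : Γ, g ∈ J := fun g x => iff_of_true (hall _) (hall _)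
  let ι : Γ →* ↥J := { toFun := fun g => ⟨g, htop g⟩, map_one' := rfl, map_mul' := fun _ _ => rfl }
  let ψ : Γ →* alternatingGroup {x : X // x ∈ Y} :=
    (ρ.comp ι).codRestrict _ fun g => by rw [← heq]; exact ⟨ι g, rfl⟩
  have hψ : Function.Bijective ψ := by
    refine ⟨fun g h e => congrArg Subtype.val (hinj (congrArg Subtype.val e) : ι g = ι h), fun π => ?_⟩
    obtain ⟨g, hg⟩ : (π : Equiv.Perm _) ∈ ρ.range := by rw [heq]; exact π.2
    exact ⟨g, Subtype.ext hg⟩
  exact ⟨(MulEquiv.ofBijective ψ hψ).trans (Fintype.equivFinOfCardEq h9).altCongrHom⟩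

end NineData

end Cfsg.Agent.Invol.ProperCore.TwistCase
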