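import Cfsg.Agent.Lib.Invol.ProperCore.TwistCaseNineData

/-!
# Two exchanged fours: a three-cycle through the base

An element `z` of order three centralises `B`, acts fixed-point-freely on `A` and fixes the points of `A`; so
`C(A) = A × C(A, z)`, and `C(A, z)` is transitive on these points. A parity argument on the common fixed points of `z`
and its conjugate by `s` gives an element of order three centralising `A`, moving the base and fixing the other points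
of `B`.
-/

set_option autoImplicit false
set_option linter.unusedSectionVars false

namespace Cfsg.Agent.Invol.ProperCore.TwistCase

open Subgroup MulAction Core2

variable {Γ X : Type*} [Group Γ] [MulAction Γ X] [Finite Γ] [Finite X]

theorem smul_cube {g : Γ} (hg : g * g * g = 1) (x : X) : g • g • g • x = x := by
  rw [smul_smul, smul_smul, hg, one_smul]

/-- An injective map of a finite subgroup into itself is onto. -/
theorem surj_of_inj {B : Subgroup Γ} (f : Γ → Γ) (hf : ∀ x ∈ B, f x ∈ B)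
    (hi : ∀ x ∈ B, ∀ y ∈ B, f x = f y → x = y) {k : Γ} (hk : k ∈ B) : ∃ x ∈ B, f x = k := by
  have hinj : Function.Injective fun q : B => (⟨f q, hf q q.2⟩ : B) := fun q r e =>
    Subtype.ext (hi q q.2 r r.2 (congrArg Subtype.val e))
  obtain ⟨x, hx⟩ := Finite.injective_iff_surjective.1 hinj ⟨k, hk⟩
  exact ⟨x, x.2, congrArg Subtype.val hx⟩

namespace NineData

variable {L : Γ → Prop} {o : X} {A B : Subgroup Γ} {a s : Γ} (d : NineData L o A B a s)

include d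

theorem commB {x y : Γ} (hx : x ∈ B) (hy : y ∈ B) : Commute x y := by
  calc x * y = (x * y)⁻¹ := (inv_eq_of_mul_eq_one_right (d.B2 (mul_mem hx hy))).symm
    _ = y * x := by rw [mul_inv_rev, inv_eq_of_mul_eq_one_right (d.B2 hx), inv_eq_of_mul_eq_one_right (d.B2 hy)]

/-- An element fixing the base, centralising `B`, that permutes the three roots of `A` cyclically. -/
theorem exists_cyc : ∃ g : Γ, g • o = o ∧ (∀ q ∈ B, Commute g q) ∧ ∃ a' ∈ A, a' ≠ 1 ∧ a' ≠ a ∧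
    g * a * g⁻¹ = a' ∧ g * a' * g⁻¹ = a * a' := by
  obtain ⟨a', ha', h1, hne⟩ := d.exists_a'
  have h2 : a * a' ≠ 1 := fun e => hne (by rw [← inv_eq_of_mul_eq_one_right e, d.inv_mem' d.ha])
  have himg : ∀ {j : Γ}, (∀ p ∈ A, j⁻¹ * p * j ∈ A) → ∀ p ∈ A, j * p * j⁻¹ ∈ A := fun {j} hj p hp => by
    obtain ⟨q, hq, h⟩ := surj_of_inj (fun q => j⁻¹ * q * j) hj
      (fun q _ r _ e => mul_left_cancel (mul_right_cancel e)) hp
    rw [← h]
    simpa [mul_assoc] using hq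
  have hinj : ∀ {j p q : Γ}, j * p * j⁻¹ = j * q * j⁻¹ → p = q := fun e =>
    mul_left_cancel (mul_right_cancel e)
  have hone : ∀ {j p : Γ}, j * p * j⁻¹ = 1 → p = 1 := fun {j p} e => hinj (e.trans (by group : (1 : Γ) = j * 1 * j⁻¹))
  obtain ⟨j, hjo, hjB, hj, hjA, -, -⟩ := d.fuse_norm ha' h1
  obtain ⟨k, hko, hkB, hk, hkA, -, -⟩ := d.fuse_norm (mul_mem d.ha ha') h2
  rcases d.mem_cases ha' h1 hne (himg hjA a' ha') with e | e | e | e
  · exact absurd (hone e) h1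
  rotate_left
  · exact absurd (hinj (e.trans hj.symm)) hne
  · exact ⟨j, hjo, hjB, a', ha', h1, hne, hj, e⟩
  -- `j` exchanges `a` and `a'`
  rcases d.mem_cases ha' h1 hne (himg hkA (a * a') (mul_mem d.ha ha')) with f | f | f | f
  · exact absurd (hone f) h2
  rotate_left
  · refine ⟨k * k, by rw [mul_smul, hko, hko], fun q hq => (hkB q hq).mul_left (hkB q hq), a', ha', h1, hne,
      by rw [← f, ← hk]; group, ?_⟩
    have h3 : k * a' * k⁻¹ = a := by
      have e' : a' = a * (a * a') := by rw [← mul_assoc, d.A2 a d.ha, one_mul]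
      calc k * a' * k⁻¹ = k * (a * (a * a')) * k⁻¹ := by rw [← e']
        _ = k * a * k⁻¹ * (k * (a * a') * k⁻¹) := by group
        _ = a * a' * a' := by rw [hk, f]
        _ = a := by rw [mul_assoc, d.A2 a' ha', mul_one]
    calc k * k * a' * (k * k)⁻¹ = k * (k * a' * k⁻¹) * k⁻¹ := by group
      _ = a * a' := by rw [h3, hk]
  · exact absurd (hinj (f.trans hk.symm)) (fun h => h1 (mul_eq_left.1 h))
  -- both exchange two roots
  have h3 : k * a' * k⁻¹ = a' := by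
    have e' : a' = a * (a * a') := by rw [← mul_assoc, d.A2 a d.ha, one_mul]
    calc k * a' * k⁻¹ = k * (a * (a * a')) * k⁻¹ := by rw [← e']
      _ = k * a * k⁻¹ * (k * (a * a') * k⁻¹) := by group
      _ = a * a' * a := by rw [hk, f]
      _ = a' := by rw [(d.commA d.ha ha').eq, mul_assoc, d.A2 a d.ha, mul_one]
  refine ⟨k * j, by rw [mul_smul, hjo, hko], fun q hq => (hkB q hq).mul_left (hjB q hq), a', ha', h1, hne, ?_, ?_⟩
  · calc k * j * a * (k * j)⁻¹ = k * (j * a * j⁻¹) * k⁻¹ := by group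
      _ = a' := by rw [hj, h3]
  · calc k * j * a' * (k * j)⁻¹ = k * (j * a' * j⁻¹) * k⁻¹ := by group
      _ = a * a' := by rw [e, hk]

/-- An element of order three centralising `B` without fixed points on `A`. -/
theorem exists_z : ∃ z : Γ, z * z * z = 1 ∧ (∀ q ∈ B, Commute z q) ∧ (∀ p ∈ A, z * p * z⁻¹ ∈ A) ∧
    (∀ p ∈ A, z * p * z⁻¹ = p → p = 1) ∧ ∀ y : X, a • y = y → z • y = y := by
  obtain ⟨g, hgo, hgB, a', ha', h1, hne, e1, e2⟩ := d.exists_cyc
  have e3 : g * (a * a') * g⁻¹ = a := by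
    calc g * (a * a') * g⁻¹ = g * a * g⁻¹ * (g * a' * g⁻¹) := by group
      _ = a := by rw [e1, e2, (d.commA d.ha ha').eq, ← mul_assoc, d.A2 a' ha', one_mul]
  have f1 : g * g * a * (g * g)⁻¹ = a * a' := by
    rw [show g * g * a * (g * g)⁻¹ = g * (g * a * g⁻¹) * g⁻¹ by group, e1, e2]
  have f2 : g * g * a' * (g * g)⁻¹ = a := by
    rw [show g * g * a' * (g * g)⁻¹ = g * (g * a' * g⁻¹) * g⁻¹ by group, e2, e3]
  have f3 : g * g * (a * a') * (g * g)⁻¹ = a' := by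
    rw [show g * g * (a * a') * (g * g)⁻¹ = g * (g * (a * a') * g⁻¹) * g⁻¹ by group, e3, e1]
  have hzo : (g * g) • o = o := by rw [mul_smul, hgo, hgo]
  have hzB : ∀ q ∈ B, Commute (g * g) q := fun q hq => (hgB q hq).mul_left (hgB q hq)
  have hz3 : g * g * (g * g) * (g * g) = 1 := by
    have h3 := d.sq_of_cent (g := g * g * g) (by rw [mul_smul, hgo, hzo])
      (fun q hq => (hzB q hq).mul_left (hgB q hq)) (mul_inv_eq_iff_eq_mul.1 (by
        rw [show g * g * g * a * (g * g * g)⁻¹ = g * g * (g * a * g⁻¹) * (g * g)⁻¹ by group, e1, f2]))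
    calc g * g * (g * g) * (g * g) = g * g * g * (g * g * g) := by group
      _ = 1 := h3
  have hA : ∀ p ∈ A, g * g * p * (g * g)⁻¹ ∈ A := fun p hp => by
    rcases d.mem_cases ha' h1 hne hp with e | e | e | e <;> rw [e]
    · rw [mul_one, mul_inv_cancel]; exact one_mem _
    · rw [f1]; exact mul_mem d.ha ha'
    · rw [f2]; exact d.ha
    · rw [f3]; exact ha'
  refine ⟨g * g, hz3, hzB, hA, fun p hp hfix => ?_, fun y hy => ?_⟩
  · rcases d.mem_cases ha' h1 hne hp with e | e | e | e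
    · exact e
    · rw [e, f1] at hfix; exact absurd (mul_eq_left.1 hfix) h1
    · rw [e, f2] at hfix; exact absurd hfix.symm hne
    · rw [e, f3] at hfix; exact absurd (mul_eq_right.1 hfix.symm) d.a1
  · have hinv : ∀ y : X, a • y = y → a • ((g * g) • y) = (g * g) • y := fun y hy => by
      rw [← f2, mul_smul, mul_smul, inv_smul_smul, d.ptw y hy a' ha']
    by_cases hyo : y = o
    · rw [hyo, hzo]
    have hzy : (g * g) • y ≠ o := fun e => hyo (MulAction.injective (g * g) (e.trans hzo.symm))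
    obtain ⟨β, hβ, hb⟩ := d.regB hy hyo (hinv y hy) hzy
    have hcom : ∀ {γ : Γ}, γ ∈ B → (g * g) • (γ • y) = γ • ((g * g) • y) := fun {γ} hγ => by
      rw [smul_smul, (hzB γ hγ).eq, mul_smul]
    have h4 := smul_cube hz3 y
    rw [← hb, hcom hβ, ← hb, smul_smul β β, d.B2 hβ, one_smul] at h4
    exact h4

/-- The second element: it centralises `A` and fixes the points of `B`. -/
theorem exists_w0 {z : Γ} (hz3 : z * z * z = 1) (hzB : ∀ q ∈ B, Commute z q) (hzA : ∀ p ∈ A, z * p * z⁻¹ ∈ A)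
    (hzf : ∀ p ∈ A, z * p * z⁻¹ = p → p = 1) (hz : ∀ y : X, a • y = y → z • y = y) :
    ∃ w : Γ, w * w * w = 1 ∧ (∀ p ∈ A, Commute w p) ∧ (∀ q ∈ B, w * q * w⁻¹ ∈ B) ∧
      (∀ q ∈ B, w * q * w⁻¹ = q → q = 1) ∧ (∀ y : X, a • (s • y) = s • y → w • y = y) ∧ Commute w z ∧
      w = s * z * s := by
  have key : ∀ q : Γ, s * z * s * q * (s * z * s)⁻¹ = s * (z * (s * q * s) * z⁻¹) * s := fun q => by
    rw [mul_inv_rev, mul_inv_rev, d.si]; group
  have hA : ∀ p ∈ A, Commute (s * z * s) p := fun p hp => by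
    refine mul_inv_eq_iff_eq_mul.1 ?_
    rw [key, (hzB _ (d.sA p hp)).eq, mul_inv_cancel_right, d.conj_s_s]
  refine ⟨s * z * s, ?_, hA, fun q hq => ?_, fun q hq e => ?_, fun y hy => ?_, ?_, rfl⟩
  · rw [show s * z * s * (s * z * s) * (s * z * s) = s * z * (s * s) * z * (s * s) * z * s by group, d.ss,
      mul_one, mul_one, mul_assoc s, mul_assoc s, hz3, mul_one, d.ss]
  · rw [key]; exact d.sA _ (hzA _ (d.sB q hq))
  · rw [key] at e
    have h1 : z * (s * q * s) * z⁻¹ = s * q * s := by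
      conv_rhs => rw [← e]
      rw [d.conj_s_s]
    rw [← d.conj_s_s q, hzf _ (d.sB q hq) h1, mul_one, d.ss]
  · rw [mul_smul, mul_smul, hz _ hy, d.smul_ss]
  -- the commutator lies in `A` and in `B`
  have hk : ∀ k : Γ, k = z * (s * z * s) * z⁻¹ * (s * z * s)⁻¹ → k ∈ A := by
    intro k hk
    refine d.kerA d.ha d.a1 ?_ fun y hy => ?_
    · have h1 : ∀ p ∈ A, Commute (z * (s * z * s) * z⁻¹) p := fun p hp => by
        have h2 : z⁻¹ * p * z ∈ A := by
          have h3 := hzA _ (hzA p hp)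
          rwa [show z * (z * p * z⁻¹) * z⁻¹ = z⁻¹ * (z * z * z) * p * (z * z * z)⁻¹ * z by group, hz3, mul_one,
            inv_one, mul_one] at h3
        have h3 := (hA _ h2).map (MulAut.conj z).toMonoidHom
        simpa [mul_assoc] using h3
      rw [hk]
      exact (h1 a d.ha).mul_left (hA a d.ha).inv_left
    · have h3 : a • ((s * z * s)⁻¹ • y) = (s * z * s)⁻¹ • y := d.fix_of_commute (hA a d.ha).inv_left hy
      have h4 : z⁻¹ • ((s * z * s)⁻¹ • y) = (s * z * s)⁻¹ • y := by rw [inv_smul_eq_iff, hz _ h3]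
      rw [hk, mul_smul, mul_smul, mul_smul, h4, smul_inv_smul, hz _ hy]
  obtain ⟨k, hkdef⟩ : ∃ k, k = z * (s * z * s) * z⁻¹ * (s * z * s)⁻¹ := ⟨_, rfl⟩
  have h1 : k ∈ B := by
    have h := d.sA _ (inv_mem (hk k hkdef))
    have hs : s * k⁻¹ * s = k := by
      have e1 : s * (s * z * s) * s⁻¹ = z := by rw [d.si, d.conj_s_s]
      have e2 : s * z * s⁻¹ = s * z * s := by rw [d.si]
      calc s * k⁻¹ * s = s * k⁻¹ * s⁻¹ := by rw [d.si]
        _ = (s * (s * z * s) * s⁻¹) * (s * z * s⁻¹) * (s * (s * z * s) * s⁻¹)⁻¹ * (s * z * s⁻¹)⁻¹ := by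
          rw [hkdef]; group
        _ = k := by rw [e1, e2, hkdef]
    rwa [hs] at h
  have := d.eq_one_of_both (hk k hkdef) h1
  rw [hkdef, mul_inv_eq_one, mul_inv_eq_iff_eq_mul] at this
  exact this.symm

variable {z w : Γ} (hzA : ∀ p ∈ A, z * p * z⁻¹ ∈ A) (hzf : ∀ p ∈ A, z * p * z⁻¹ = p → p = 1)
  (hz : ∀ y : X, a • y = y → z • y = y) (hwB : ∀ q ∈ B, w * q * w⁻¹ ∈ B) (hwf : ∀ q ∈ B, w * q * w⁻¹ = q → q = 1)

include hwB hwf in
theorem surjB {β : Γ} (hβ : β ∈ B) : ∃ γ ∈ B, w * γ * w⁻¹ * γ⁻¹ = β := by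
  refine surj_of_inj (fun γ => w * γ * w⁻¹ * γ⁻¹) (fun γ hγ => mul_mem (hwB γ hγ) (inv_mem hγ))
    (fun γ hγ ε hε e => (inv_mul_eq_one.1 (hwf _ (mul_mem (inv_mem hε) hγ) ?_)).symm) hβ
  have e' : w * γ * w⁻¹ * γ⁻¹ = w * ε * w⁻¹ * ε⁻¹ := e
  calc w * (ε⁻¹ * γ) * w⁻¹ = (w * ε * w⁻¹)⁻¹ * (w * γ * w⁻¹ * γ⁻¹) * γ := by group
    _ = ε⁻¹ * γ := by rw [e']; group

include hzA hzf in
theorem surjA {k : Γ} (hk : k ∈ A) : ∃ α ∈ A, z * α * z⁻¹ * α⁻¹ = k := by
  refine surj_of_inj (fun γ => z * γ * z⁻¹ * γ⁻¹) (fun γ hγ => mul_mem (hzA γ hγ) (inv_mem hγ))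
    (fun γ hγ ε hε e => (inv_mul_eq_one.1 (hzf _ (mul_mem (inv_mem hε) hγ) ?_)).symm) hk
  have e' : z * γ * z⁻¹ * γ⁻¹ = z * ε * z⁻¹ * ε⁻¹ := e
  calc z * (ε⁻¹ * γ) * z⁻¹ = (z * ε * z⁻¹)⁻¹ * (z * γ * z⁻¹ * γ⁻¹) * γ := by group
    _ = ε⁻¹ * γ := by rw [e']; group

include hzA hzf hz in
/-- The centraliser of `A` and `z` moves the base to every fixed point of `A`. -/
theorem exists_mover {x : X} (hx : a • x = x) (hxo : x ≠ o) :
    ∃ l : Γ, (∀ p ∈ A, Commute l p) ∧ Commute l z ∧ l • o = x := by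
  obtain ⟨c, hca, hco⟩ := d.orb x hx
  have hb1 := d.conj_s_ne d.a1
  set b := s * a * s
  have hl0 : ∀ p ∈ A, Commute (c * b * c⁻¹) p := fun p hp => by
    have h1 : c⁻¹ * p * c ∈ A := by simpa using d.norm_of_commute hca.inv_left hp
    simpa [mul_assoc] using ((d.comm _ h1 b d.b_mem).symm).map (MulAut.conj c).toMonoidHom
  have hP0 : a • ((c * b * c⁻¹) • o) = (c * b * c⁻¹) • o := d.fix_of_commute (hl0 a d.ha) (d.fixo a d.ha)
  have hne : (c * b * c⁻¹) • o ≠ o := fun e => by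
    rw [mul_smul, mul_smul, ← eq_inv_smul_iff] at e
    have := d.fixB_o d.b_mem hb1 (d.fix_of_commute hca.inv_left (d.fixo a d.ha)) e
    rw [inv_smul_eq_iff, hco] at this
    exact hxo this.symm
  obtain ⟨β, hβ, hβx⟩ := d.regB hP0 hne hx hxo
  obtain ⟨l0, hl0def⟩ : ∃ l0, l0 = β * (c * b * c⁻¹) := ⟨_, rfl⟩
  have hlA : ∀ p ∈ A, Commute l0 p := fun p hp => hl0def ▸ (d.comm p hp β hβ).symm.mul_left (hl0 p hp)
  have hk : z * l0 * z⁻¹ * l0⁻¹ ∈ A := by
    refine d.kerA d.ha d.a1 ?_ fun y hy => ?_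
    · refine Commute.mul_left ?_ (hlA a d.ha).inv_left
      obtain ⟨α, hα, hαe⟩ := surj_of_inj (fun γ => z * γ * z⁻¹) hzA
        (fun γ _ ε _ e => mul_left_cancel (mul_right_cancel e)) d.ha
      have h1 := (hlA α hα).map (MulAut.conj z).toMonoidHom
      simp only [MulEquiv.coe_toMonoidHom, MulAut.conj_apply] at h1
      rwa [hαe] at h1
    · have h3 : a • (l0⁻¹ • y) = l0⁻¹ • y := d.fix_of_commute (hlA a d.ha).inv_left hy
      have h4 : z⁻¹ • (l0⁻¹ • y) = l0⁻¹ • y := by rw [inv_smul_eq_iff, hz _ h3]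
      rw [mul_smul, mul_smul, mul_smul, h4, smul_inv_smul, hz _ hy]
  obtain ⟨α, hα, hαk⟩ := d.surjA hzA hzf hk
  refine ⟨α⁻¹ * l0, fun p hp => (d.commA hα hp).inv_left.mul_left (hlA p hp), (mul_inv_eq_iff_eq_mul.1 ?_).symm, ?_⟩
  · have hc : Commute (z * α * z⁻¹) α := d.commA (hzA α hα) hα
    calc z * (α⁻¹ * l0) * z⁻¹ = (z * α * z⁻¹)⁻¹ * (z * l0 * z⁻¹ * l0⁻¹) * l0 := by group
      _ = (z * α * z⁻¹)⁻¹ * (z * α * z⁻¹ * α⁻¹) * l0 := by rw [hαk]
      _ = α⁻¹ * l0 := by group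
  · rw [mul_smul, inv_smul_eq_iff, hl0def, mul_smul, hβx, d.ptw x hx α hα]

/-- An element of order three centralising `A` that moves the base and fixes the other fixed points of `B`. -/
theorem exists_cycle : ∃ z w : Γ, (∀ q ∈ B, ∃ γ ∈ B, w * γ * w⁻¹ * γ⁻¹ = q) ∧ z * z * z = 1 ∧ z • o = o ∧
    w * w * w = 1 ∧ w • o = o ∧ (∀ p ∈ A, Commute w p) ∧ (∀ y : X, a • (s • y) = s • y → w • y = y) ∧
    (∃ x : X, a • x = x ∧ x ≠ o ∧ w • x = x) ∧ (∃ x : X, a • x = x ∧ w • x ≠ x) ∧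
    ∃ v : Γ, v * v * v = 1 ∧ (∀ p ∈ A, Commute v p) ∧ v • o ≠ o ∧
      ∀ y : X, a • (s • y) = s • y → y ≠ o → v • y = y := by
  obtain ⟨z, hz3, hzB, hzA, hzf, hz⟩ := d.exists_z
  obtain ⟨w, hw3, hwA, hwB, hwf, hwfix, hwz, hwdef⟩ := d.exists_w0 hz3 hzB hzA hzf hz
  have hoP := d.fixo a d.ha
  have hzo : z • o = o := hz o hoP
  have hwo : w • o = o := hwfix o (by rw [d.so, hoP])
  have hstab : ∀ {l : Γ}, (∀ p ∈ A, Commute l p) → ∀ {y : X}, a • y = y → a • (l • y) = l • y :=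
    fun hl _ hy => d.fix_of_commute (hl a d.ha) hy
  have hdel : ∀ {γ : Γ}, γ ∈ B → ∀ y : X, w • (γ • y) = (w * γ * w⁻¹) • (w • y) := fun {γ} _ y => by
    rw [smul_smul, smul_smul]; congr 1; group
  -- the fixed point of `w` off the base
  obtain ⟨x, hxP, hxo⟩ := d.exists_moved
  have hwx : w • x ≠ o := fun e => hxo (MulAction.injective w (e.trans hwo.symm))
  obtain ⟨β, hβ, hβx⟩ := d.regB hxP hxo (hstab hwA hxP) hwx
  obtain ⟨γ, hγ, hγe⟩ := d.surjB hwB hwf hβ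
  obtain ⟨x1, hx1def⟩ : ∃ x1, x1 = γ • x := ⟨_, rfl⟩
  obtain ⟨hx1P, hx1o⟩ : a • x1 = x1 ∧ x1 ≠ o := hx1def ▸ d.moves_of_ne hγ hxP hxo
  have hx1 : w • x1 = x1 := by
    have e : w * γ * w⁻¹ = β * γ := by rw [← hγe, inv_mul_cancel_right]
    rw [hx1def, hdel hγ, e, ← hβx, smul_smul, (d.commB hβ hγ).eq, mul_assoc, d.B2 hβ, mul_one]
  -- `x2` moved by `w`
  obtain ⟨x2, hx2P, hx2o, hx21⟩ : ∃ x2, a • x2 = x2 ∧ x2 ≠ o ∧ x2 ≠ x1 := by
    by_contra h
    push Not at h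
    have h1 : {y : X | a • y = y} ⊆ {o, x1} := fun y hy => by
      by_cases e : y = o
      exacts [Or.inl e, Or.inr (h y hy e)]
    have := (Set.ncard_le_ncard h1).trans (Set.ncard_insert_le _ _)
    rw [d.five, Set.ncard_singleton] at this
    omega
  have hw2 : w • x2 ≠ x2 := fun e => by
    obtain ⟨ε, hε, hεx⟩ := d.regB hx1P hx1o hx2P hx2o
    rw [← hεx, hdel hε, hx1] at e
    have h1 : ε⁻¹ * (w * ε * w⁻¹) = 1 := by
      by_contra hne
      refine hx1o (d.fixB_o (mul_mem (inv_mem hε) (hwB ε hε)) hne hx1P ?_)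
      rw [mul_smul, e, inv_smul_smul]
    exact hx21 (by rw [← hεx, hwf ε hε (inv_mul_eq_one.1 h1).symm, one_smul])
  obtain ⟨x3, hx3⟩ : ∃ x3, x3 = w • x2 := ⟨_, rfl⟩
  obtain ⟨x4, hx4⟩ : ∃ x4, x4 = w • x3 := ⟨_, rfl⟩
  have hw4 : w • x4 = x2 := by rw [hx4, hx3, smul_cube hw3]
  have hx3P : a • x3 = x3 := hx3 ▸ hstab hwA hx2P
  have hx4P : a • x4 = x4 := hx4 ▸ hstab hwA hx3P
  have n23 : x3 ≠ x2 := hx3 ▸ hw2
  have hwinj : ∀ {p q : X}, w • p = w • q → p = q := fun e => MulAction.injective w e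
  have n34 : x4 ≠ x3 := fun e => n23 (hwinj ((hx4.symm.trans e).trans hx3))
  have n24 : x4 ≠ x2 := fun e => hw2 (by rw [e] at hw4; exact hw4)
  have n3o : x3 ≠ o := fun e => hx2o (hwinj ((hx3.symm.trans e).trans hwo.symm))
  have n31 : x3 ≠ x1 := fun e => hx21 (hwinj ((hx3.symm.trans e).trans hx1.symm))
  have n4o : x4 ≠ o := fun e => n3o (hwinj ((hx4.symm.trans e).trans hwo.symm))
  have n41 : x4 ≠ x1 := fun e => n31 (hwinj ((hx4.symm.trans e).trans hx1.symm))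
  have hP : {y : X | a • y = y} = {o, x1, x2, x3, x4} := by
    refine (Set.eq_of_subset_of_ncard_le ?_ ?_).symm
    · rintro y (rfl | rfl | rfl | rfl | rfl) <;> assumption
    · rw [d.five, Set.ncard_insert_of_notMem, Set.ncard_insert_of_notMem, Set.ncard_insert_of_notMem,
        Set.ncard_insert_of_notMem, Set.ncard_singleton]
      · simpa using n34.symm
      · simp [n23.symm, n24.symm]
      · simp [hx21.symm, n31.symm, n41.symm]
      · simp [hx1o.symm, hx2o.symm, n3o.symm, n4o.symm]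
  -- the involution `t`
  obtain ⟨l, hlA, hlz, hlo⟩ := d.exists_mover hzA hzf hz hx2P hx2o
  have hpre : ∀ {y : X}, a • y = y → y ≠ x2 → a • (l⁻¹ • y) = l⁻¹ • y ∧ l⁻¹ • y ≠ o := fun hy hne =>
    ⟨hstab (fun p hp => (hlA p hp).inv_left) hy, fun e => hne (by rw [inv_smul_eq_iff.1 e, hlo])⟩
  obtain ⟨hoP', hoo'⟩ := hpre hoP (Ne.symm hx2o)
  obtain ⟨h1P', h1o'⟩ := hpre hx1P (Ne.symm hx21)
  obtain ⟨β', hβ', hb'⟩ := d.regB hoP' hoo' h1P' h1o'
  have hβ1 : β' ≠ 1 := fun e => hx1o (by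
    rw [e, one_smul] at hb'
    exact (MulAction.injective l⁻¹ hb').symm)
  obtain ⟨t, htdef⟩ : ∃ t, t = l * β' * l⁻¹ := ⟨_, rfl⟩
  have htA : ∀ p ∈ A, Commute t p := fun p hp =>
    htdef ▸ ((hlA p hp).mul_left (d.comm p hp β' hβ').symm).mul_left (hlA p hp).inv_left
  have htz : Commute t z := htdef ▸ (hlz.mul_left (hzB β' hβ').symm).mul_left hlz.inv_left
  have htt : t * t = 1 := by
    rw [htdef, show l * β' * l⁻¹ * (l * β' * l⁻¹) = l * (β' * β') * l⁻¹ by group, d.B2 hβ', mul_one, mul_inv_cancel]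
  have tinv : ∀ {p q : X}, t • p = q → t • q = p := fun {p q} e => by rw [← e, smul_smul, htt, one_smul]
  have t0 : t • o = x1 := by rw [htdef, mul_smul, mul_smul, hb', smul_inv_smul]
  have t1 : t • x1 = o := tinv t0
  have tfix : ∀ {y : X}, a • y = y → t • y = y → y = x2 := fun {y} hy e => by
    by_contra hne
    obtain ⟨h, h'⟩ := hpre hy hne
    refine h' (d.fixB_o hβ' hβ1 h ?_)
    rw [htdef, mul_smul, mul_smul] at e
    rw [eq_inv_smul_iff]
    exact e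
  have t2 : t • x2 = x2 := by
    rw [htdef, mul_smul, mul_smul, ← hlo, inv_smul_smul, d.fixoB hβ']
  have t3 : t • x3 = x4 := by
    have h := hstab htA hx3P
    have h' : t • x3 ∈ ({o, x1, x2, x3, x4} : Set X) := hP ▸ h
    simp only [Set.mem_insert_iff, Set.mem_singleton_iff] at h'
    rcases h' with e | e | e | e | e
    · exact absurd ((tinv e).symm.trans t0) n31
    · exact absurd ((tinv e).symm.trans t1) n3o
    · exact absurd ((tinv e).symm.trans t2) n23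
    · exact absurd (tfix hx3P e) n23
    · exact e
  have t4 : t • x4 = x3 := tinv t3
  -- `t` inverts `w`
  have htw : t * w * t * w = 1 := by
    obtain ⟨k, hk⟩ : ∃ k, k = t * w * t * w := ⟨_, rfl⟩
    rw [← hk]
    have hkA : ∀ p ∈ A, Commute k p := fun p hp =>
      hk ▸ (((htA p hp).mul_left (hwA p hp)).mul_left (htA p hp)).mul_left (hwA p hp)
    have hkz : Commute k z := hk ▸ ((htz.mul_left hwz).mul_left htz).mul_left hwz
    have hmem : k ∈ A := d.kerA d.ha d.a1 (hkA a d.ha) fun y hy => by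
      have hy' : y ∈ ({o, x1, x2, x3, x4} : Set X) := hP ▸ hy
      simp only [Set.mem_insert_iff, Set.mem_singleton_iff] at hy'
      rw [hk, mul_smul, mul_smul, mul_smul]
      rcases hy' with e | e | e | e | e <;> rw [e]
      · rw [hwo, t0, hx1, t1]
      · rw [hx1, t1, hwo, t0]
      · rw [← hx3, t3, hw4, t2]
      · rw [← hx4, t4, ← hx4, t4]
      · rw [hw4, t2, ← hx3, t3]
    exact hzf k hmem (mul_inv_eq_iff_eq_mul.2 hkz.symm.eq)
  -- parity on the common fixed points of `z` and `w`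
  have hwsz : ∀ y : X, w • (s • y) = s • (z • y) := fun y => by
    rw [hwdef, mul_smul, mul_smul, d.smul_ss]
  have hzsw : ∀ y : X, z • (s • y) = s • (w • y) := fun y => by
    rw [hwdef, mul_smul, mul_smul, d.smul_ss]
  obtain ⟨p, ⟨hpz, hpw⟩, hpt⟩ := exists_fix_of_one {y : X | z • y = y ∧ w • y = y} s t d.ss htt
    (fun y hy => ⟨by rw [hzsw, hy.2], by rw [hwsz, hy.1]⟩)
    (fun y hy => ⟨by rw [smul_smul, ← htz.eq, mul_smul, hy.1], by
      have e : w * t = t * w⁻¹ := by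
        calc w * t = t⁻¹ * (t * w * t * w) * w⁻¹ := by group
          _ = t * w⁻¹ := by rw [htw, mul_one, inv_eq_of_mul_eq_one_right htt]
      rw [smul_smul, e, mul_smul, inv_smul_eq_iff.2 hy.2.symm]⟩)
    (show o ∈ {y : X | z • y = y ∧ w • y = y} from ⟨hzo, hwo⟩) d.so fun y _ e => d.lfix s d.sL y o e d.so
  -- its preimage under `l` is a second fixed point of `B`
  obtain ⟨q, hq⟩ : ∃ q, q = l⁻¹ • p := ⟨_, rfl⟩
  have hqB : a • (s • q) = s • q := (d.fixB_iff hβ' hβ1 q).1 (by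
    rw [hq, eq_inv_smul_iff, ← mul_smul, ← mul_smul, ← htdef]; exact hpt)
  have hqo : q ≠ o := fun e => hw2 (by
    rw [hq, inv_smul_eq_iff, hlo] at e
    rw [← e]; exact hpw)
  refine ⟨z, w, fun β hβ => d.surjB hwB hwf hβ, hz3, hzo, hw3, hwo, hwA, hwfix, ⟨x1, hx1P, hx1o, hx1⟩,
    ⟨x2, hx2P, hw2⟩, l⁻¹ * w * l, ?_, fun p hp => ((hlA p hp).inv_left.mul_left (hwA p hp)).mul_left (hlA p hp),
    fun e => ?_, fun y hy hyo => ?_⟩
  · rw [show l⁻¹ * w * l * (l⁻¹ * w * l) * (l⁻¹ * w * l) = l⁻¹ * (w * w * w) * l by group, hw3, mul_one,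
      inv_mul_cancel]
  · rw [mul_smul, mul_smul, hlo, inv_smul_eq_iff, hlo] at e
    exact hw2 e
  · obtain ⟨ε, hε, hεy⟩ := d.regB hqB (fun e => hqo (MulAction.injective s (e.trans d.so.symm))) hy
      (fun e => hyo (MulAction.injective s (e.trans d.so.symm)))
    have hy' : y = (s * ε * s) • q := by rw [mul_smul, mul_smul, hεy, d.smul_ss]
    have hc : Commute (l⁻¹ * w * l) (s * ε * s) :=
      ((hlA _ (d.sB ε hε)).inv_left.mul_left (hwA _ (d.sB ε hε))).mul_left (hlA _ (d.sB ε hε))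
    have hfq : (l⁻¹ * w * l) • q = q := by
      rw [hq, mul_smul, mul_smul, smul_inv_smul, hpw]
    rw [hy', smul_smul, hc.eq, mul_smul, hfq]

end NineData

end Cfsg.Agent.Invol.ProperCore.TwistCase
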