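import Mathlib
import Cfsg.Agent.Lib.Invol.Core2.TwistPerm

/-!
# Two exchanged fours: the nine points

`Γ` permutes `X`; the fours `A` and `B` fix the base point `o` and are exchanged by an involution `s` with `o` as its
only fixed point; `a ∈ A` fixes five points, all fixed by `A`, and the products of nontrivial elements of `A` and `B`
fix at most one point. Then a three-cycle on the fixed points of `A` fixes the other fixed points of `B`, and the
centraliser of `a` preserves the union of the two sets of fixed points.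
-/

set_option autoImplicit false
set_option linter.unusedSectionVars false

namespace Cfsg.Agent.Invol.ProperCore.TwistCase

open Subgroup MulAction Core2

variable {Γ X : Type*} [Group Γ] [MulAction Γ X] [Finite Γ] [Finite X]

/-- Two fours exchanged by an involution, in a permutation group. `L` are involutions with at most one fixed point. -/
structure NineData (L : Γ → Prop) (o : X) (A B : Subgroup Γ) (a s : Γ) : Prop where
  trans : ∀ x : X, ∃ g : Γ, g • o = x
  lfix : ∀ g : Γ, L g → ∀ x y : X, g • x = x → g • y = y → x = y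
  trip : ∀ t₁ t₂ t₃ : Γ, t₁ * t₁ = 1 → t₂ * t₂ = 1 → t₃ * t₃ = 1 → Commute t₁ t₂ → Commute t₁ t₃ → Commute t₂ t₃ →
    ¬ L t₁ → ¬ L t₂ → ¬ L t₃ → ¬ L (t₁ * t₂) → ¬ L (t₁ * t₃) → ¬ L (t₂ * t₃) → t₁ ≠ 1 → t₂ ≠ 1 → t₃ ≠ 1 →
    t₁ * t₂ ≠ 1 → t₁ * t₃ ≠ 1 → t₂ * t₃ ≠ 1 → t₁ * t₂ * t₃ ≠ 1 → L (t₁ * t₂ * t₃)
  ss : s * s = 1
  sL : L s
  so : s • o = o
  ha : a ∈ A
  a1 : a ≠ 1
  cardA : Nat.card A = 4
  A2 : ∀ x ∈ A, x * x = 1
  sA : ∀ x ∈ A, s * x * s ∈ B
  sB : ∀ x ∈ B, s * x * s ∈ A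
  comm : ∀ x ∈ A, ∀ y ∈ B, Commute x y
  fixo : ∀ x ∈ A, x • o = o
  mix : ∀ x ∈ A, x ≠ 1 → ∀ y ∈ B, y ≠ 1 → L (x * y)
  five : {x : X | a • x = x}.ncard = 5
  ptw : ∀ x : X, a • x = x → ∀ p ∈ A, p • x = x
  orb : ∀ x : X, a • x = x → ∃ c : Γ, Commute c a ∧ c • o = x
  ker : ∀ c : Γ, Commute c a → (∀ x : X, a • x = x → c • x = x) → c ∈ A
  fuse : ∀ x ∈ A, x ≠ 1 → ∃ j : Γ, j • o = o ∧ (∀ q ∈ B, Commute j q) ∧ j * a * j⁻¹ = x

/-- An involution of a finite set with one fixed point in an invariant set has a fixed point in common with every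
other such set map without fixed points: the parity of the set. -/
theorem exists_fix_of_one (F : Set X) (g h : Γ) (hg : g * g = 1) (hh : h * h = 1) (hgF : ∀ x ∈ F, g • x ∈ F)
    (hhF : ∀ x ∈ F, h • x ∈ F) {o : X} (ho : o ∈ F) (hgo : g • o = o) (hg1 : ∀ x ∈ F, g • x = x → x = o) :
    ∃ x ∈ F, h • x = x := by
  classical
  by_contra hcon
  push Not at hcon
  haveI : Fintype F := Fintype.ofFinite F
  have key : ∀ k : Γ, k * k = 1 → ∀ hk : ∀ x ∈ F, k • x ∈ F,
      Even (Finset.univ.filter fun x : F => k • (x : X) ≠ x).card := fun k hk2 hk => by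
    let p : Equiv.Perm F := Function.Involutive.toPerm (fun x => ⟨k • (x : X), hk x x.2⟩)
      fun x => Subtype.ext (by show k • k • (x : X) = x; rw [smul_smul, hk2, one_smul])
    have h1 := Five.even_support_of_sq p fun x => Subtype.ext (by
      show k • k • (x : X) = x; rw [smul_smul, hk2, one_smul])
    convert h1 using 2
    ext x
    rw [Finset.mem_filter, Equiv.Perm.mem_support]
    exact ⟨fun e e' => e.2 (congrArg Subtype.val e'), fun e => ⟨Finset.mem_univ _, fun e' => e (Subtype.ext e')⟩⟩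
  have h1 := key g hg hgF
  have h2 := key h hh hhF
  rw [show (Finset.univ.filter fun x : F => g • (x : X) ≠ x) = Finset.univ.erase ⟨o, ho⟩ by
    ext x
    simp only [Finset.mem_filter, Finset.mem_univ, true_and, Finset.mem_erase, and_true, ne_eq]
    refine not_congr ⟨fun e => Subtype.ext (hg1 x x.2 e), fun e => ?_⟩
    subst e
    exact hgo, Finset.card_erase_of_mem (Finset.mem_univ _)] at h1
  rw [Finset.filter_true_of_mem fun (x : F) _ => hcon x x.2] at h2
  have h3 : 0 < (Finset.univ : Finset F).card := Finset.card_pos.2 ⟨⟨o, ho⟩, Finset.mem_univ _⟩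
  obtain ⟨i, hi⟩ := h1
  obtain ⟨j, hj⟩ := h2
  omega

namespace NineData

variable {L : Γ → Prop} {o : X} {A B : Subgroup Γ} {a s : Γ} (d : NineData L o A B a s)

include d

theorem si : s⁻¹ = s := inv_eq_of_mul_eq_one_right d.ss

theorem inv_mem' {x : Γ} (hx : x ∈ A) : x⁻¹ = x := inv_eq_of_mul_eq_one_right (d.A2 x hx)

theorem commA {x y : Γ} (hx : x ∈ A) (hy : y ∈ A) : Commute x y := by
  have h := d.A2 (x * y) (mul_mem hx hy)
  calc x * y = (x * y)⁻¹ := (inv_eq_of_mul_eq_one_right h).symm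
    _ = y * x := by rw [mul_inv_rev, d.inv_mem' hx, d.inv_mem' hy]

theorem smul_ss (x : X) : s • s • x = x := by rw [smul_smul, d.ss, one_smul]

theorem conj_s_s (x : Γ) : s * (s * x * s) * s = x := by
  rw [show s * (s * x * s) * s = (s * s) * x * (s * s) by group, d.ss, one_mul, mul_one]

theorem b_mem : s * a * s ∈ B := d.sA a d.ha

theorem conj_s_ne {x : Γ} (hx : x ≠ 1) : s * x * s ≠ 1 := fun e => hx (by
  rw [← d.conj_s_s x, e, mul_one, d.ss])

theorem B2 {x : Γ} (hx : x ∈ B) : x * x = 1 := by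
  have h := d.A2 _ (d.sB x hx)
  rw [← d.conj_s_s x, show s * (s * x * s) * s * (s * (s * x * s) * s) =
    s * (s * x * s) * (s * s) * (s * x * s) * s by group, d.ss, mul_one, mul_assoc s, h, mul_one, d.ss]

theorem fixoB {x : Γ} (hx : x ∈ B) : x • o = o := by
  rw [← d.conj_s_s x, mul_smul, mul_smul, d.so, d.fixo _ (d.sB x hx), d.so]

theorem cardB : Nat.card B = 4 := by
  rw [← d.cardA]
  exact (Nat.card_congr (Equiv.mk (fun x : A => (⟨s * x * s, d.sA x x.2⟩ : B))
    (fun x : B => (⟨s * x * s, d.sB x x.2⟩ : A)) (fun x => Subtype.ext (d.conj_s_s _))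
    fun x => Subtype.ext (d.conj_s_s _))).symm

theorem not_L_of_two {g : Γ} {x y : X} (hx : g • x = x) (hy : g • y = y) (hne : x ≠ y) : ¬ L g :=
  fun h => hne (d.lfix g h x y hx hy)

/-- The fixed points of `A`. -/
theorem exists_moved : ∃ x : X, a • x = x ∧ x ≠ o := by
  by_contra h
  push Not at h
  have h1 : {x : X | a • x = x} ⊆ {o} := fun x hx => h x hx
  have := Set.ncard_le_ncard h1
  rw [d.five, Set.ncard_singleton] at this
  omega

theorem eq_one_of_both {x : Γ} (hx : x ∈ A) (hx' : x ∈ B) : x = 1 := by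
  by_contra h
  have h1 := d.mix x hx h x hx' h
  rw [d.A2 x hx] at h1
  obtain ⟨p, -, hp⟩ := d.exists_moved
  exact hp (d.lfix 1 h1 p o (one_smul _ _) (one_smul _ _))

theorem exists_a' : ∃ a' ∈ A, a' ≠ 1 ∧ a' ≠ a := by
  by_contra h
  push Not at h
  have h1 : ((A : Set Γ)).ncard ≤ ({1, a} : Set Γ).ncard := Set.ncard_le_ncard fun x hx => by
    by_cases e : x = 1
    · exact Or.inl e
    · exact Or.inr (h x hx e)
  rw [← Nat.card_coe_set_eq, SetLike.coe_sort_coe, d.cardA] at h1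
  have h2 : ({1, a} : Set Γ).ncard ≤ 2 := (Set.ncard_insert_le _ _).trans (by rw [Set.ncard_singleton])
  omega

theorem mem_cases {a' x : Γ} (ha' : a' ∈ A) (h1 : a' ≠ 1) (hne : a' ≠ a) (hx : x ∈ A) :
    x = 1 ∨ x = a ∨ x = a' ∨ x = a * a' := by
  by_contra h
  push Not at h
  have e1 : a * a' ≠ 1 := fun e => hne (by rw [← inv_eq_of_mul_eq_one_right e, d.inv_mem' d.ha])
  have e2 : a * a' ≠ a := fun e => h1 (mul_eq_left.1 e)
  have e3 : a * a' ≠ a' := fun e => d.a1 (mul_eq_right.1 e)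
  have hsub : ({1, a, a', a * a', x} : Set Γ) ⊆ (A : Set Γ) := by
    rintro y (rfl | rfl | rfl | rfl | rfl)
    exacts [one_mem _, d.ha, ha', mul_mem d.ha ha', hx]
  have := Set.ncard_le_ncard hsub
  rw [← Nat.card_coe_set_eq (A : Set Γ), SetLike.coe_sort_coe, d.cardA, Set.ncard_insert_of_notMem,
    Set.ncard_insert_of_notMem, Set.ncard_insert_of_notMem, Set.ncard_insert_of_notMem, Set.ncard_singleton] at this
  · omega
  · simp only [Set.mem_singleton_iff]; exact Ne.symm h.2.2.2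
  · simp only [Set.mem_insert_iff, Set.mem_singleton_iff, not_or]; exact ⟨e3.symm, Ne.symm h.2.2.1⟩
  · simp only [Set.mem_insert_iff, Set.mem_singleton_iff, not_or]; exact ⟨hne.symm, e2.symm, Ne.symm h.2.1⟩
  · simp only [Set.mem_insert_iff, Set.mem_singleton_iff, not_or]; exact ⟨d.a1.symm, h1.symm, e1.symm, Ne.symm h.1⟩

/-- The elements conjugating `a` inside `A` and fixing the base normalise `A`, and every element of `A` has the same
fixed points. -/
theorem fuse_norm {x : Γ} (hx : x ∈ A) (hx1 : x ≠ 1) : ∃ j : Γ, j • o = o ∧ (∀ q ∈ B, Commute j q) ∧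
    j * a * j⁻¹ = x ∧ (∀ p ∈ A, j⁻¹ * p * j ∈ A) ∧ (∀ y : X, x • y = y ↔ a • y = y) ∧
    (∀ y : X, a • y = y ↔ a • (j⁻¹ • y) = j⁻¹ • y) := by
  obtain ⟨j, hjo, hjB, hj⟩ := d.fuse x hx hx1
  have htr : ∀ y : X, x • y = y ↔ a • (j⁻¹ • y) = j⁻¹ • y := fun y => by
    rw [← hj, mul_smul, mul_smul, ← eq_inv_smul_iff]
  have heq : {y : X | x • y = y} = (j • ·) '' {y : X | a • y = y} := by
    ext y
    refine ⟨fun hy => ⟨j⁻¹ • y, (htr y).1 hy, smul_inv_smul j y⟩, ?_⟩
    rintro ⟨w, hw, rfl⟩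
    exact (htr _).2 (by rw [inv_smul_smul]; exact hw)
  have hP : {y : X | a • y = y} = {y : X | x • y = y} := by
    refine Set.eq_of_subset_of_ncard_le (fun y hy => d.ptw y hy x hx) ?_
    rw [heq, Set.ncard_image_of_injective _ (MulAction.injective j)]
  have hiff : ∀ y : X, x • y = y ↔ a • y = y := fun y => (Set.ext_iff.1 hP y).symm
  refine ⟨j, hjo, hjB, hj, fun p hp => ?_, hiff, fun y => (hiff y).symm.trans (htr y)⟩
  refine d.ker _ ?_ fun y hy => ?_
  · have h1 := (show Commute p x from d.commA hp hx).map (MulAut.conj j⁻¹).toMonoidHom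
    simp only [MulEquiv.coe_toMonoidHom, MulAut.conj_apply, inv_inv] at h1
    rwa [show j⁻¹ * x * j = a by rw [← hj]; group] at h1
  · have h1 : x • (j • y) = j • y := (htr _).2 (by rw [inv_smul_smul]; exact hy)
    rw [mul_smul, mul_smul, d.ptw _ ((hiff _).1 h1) p hp, inv_smul_smul]

theorem fixA_iff {x : Γ} (hx : x ∈ A) (hx1 : x ≠ 1) (y : X) : x • y = y ↔ a • y = y := by
  obtain ⟨j, -, -, -, -, h, -⟩ := d.fuse_norm hx hx1
  exact h y

theorem fixB_iff {x : Γ} (hx : x ∈ B) (hx1 : x ≠ 1) (y : X) : x • y = y ↔ a • (s • y) = s • y := by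
  rw [← d.fixA_iff (d.sB x hx) (d.conj_s_ne hx1) (s • y), mul_smul, mul_smul, d.smul_ss,
    (MulAction.injective s).eq_iff]

/-- Commuting with a member of `A` and fixing its fixed points is lying in `A`. -/
theorem kerA {x c : Γ} (hx : x ∈ A) (hx1 : x ≠ 1) (hc : Commute c x) (hfix : ∀ y : X, a • y = y → c • y = y) :
    c ∈ A := by
  obtain ⟨j, -, -, hj, hA, -, hP⟩ := d.fuse_norm hx hx1
  have h1 : j⁻¹ * c * j ∈ A := by
    refine d.ker _ ?_ fun y hy => ?_
    · have h1 := hc.map (MulAut.conj j⁻¹).toMonoidHom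
      simp only [MulEquiv.coe_toMonoidHom, MulAut.conj_apply, inv_inv] at h1
      rwa [show j⁻¹ * x * j = a by rw [← hj]; group] at h1
    · have h2 : a • (j • y) = j • y := (hP _).2 (by rw [inv_smul_smul]; exact hy)
      rw [mul_smul, mul_smul, hfix _ h2, inv_smul_smul]
  have hbij : Function.Surjective fun p : A => (⟨j⁻¹ * p * j, hA p p.2⟩ : A) :=
    Finite.injective_iff_surjective.1 fun p q e => Subtype.ext
      (mul_left_cancel (mul_right_cancel (congrArg Subtype.val e)))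
  obtain ⟨p, hp⟩ := hbij ⟨_, h1⟩
  rw [show c = (p : Γ) from (mul_left_cancel (mul_right_cancel (congrArg Subtype.val hp))).symm]
  exact p.2

/-- The centraliser of `a` preserves its fixed points and normalises `A`. -/
theorem fix_of_commute {c : Γ} (hc : Commute c a) {x : X} (hx : a • x = x) : a • (c • x) = c • x := by
  rw [smul_smul, ← hc.eq, mul_smul, hx]

theorem norm_of_commute {c : Γ} (hc : Commute c a) {p : Γ} (hp : p ∈ A) : c * p * c⁻¹ ∈ A :=
  d.ker _ ((hc.mul_left (d.commA hp d.ha)).mul_left hc.inv_left) fun x hx => by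
    rw [mul_smul, mul_smul, d.ptw _ (d.fix_of_commute hc.inv_left hx) p hp, smul_inv_smul]

theorem fixB_o {x : Γ} (hx : x ∈ B) (hx1 : x ≠ 1) {y : X} (hy : a • y = y) (hxy : x • y = y) : y = o :=
  d.lfix _ (d.mix a d.ha d.a1 x hx hx1) y o (by rw [mul_smul, hxy, hy]) (by rw [mul_smul, d.fixoB hx, d.fixo a d.ha])

theorem moves_of_ne {x : Γ} (hx : x ∈ B) {y : X} (hy : a • y = y) (hyo : y ≠ o) :
    a • (x • y) = x • y ∧ x • y ≠ o := by
  refine ⟨d.fix_of_commute (d.comm a d.ha x hx).symm hy, fun e => hyo ?_⟩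
  conv_rhs at e => rw [← d.fixoB hx]
  exact MulAction.injective x e

/-- `B` is regular on the fixed points of `a` other than the base. -/
theorem regB {x y : X} (hx : a • x = x) (hxo : x ≠ o) (hy : a • y = y) (hyo : y ≠ o) :
    ∃ β ∈ B, β • x = y := by
  classical
  let f : B → ({z : X | a • z = z} \ {o} : Set X) := fun β => ⟨(β : Γ) • x, d.moves_of_ne β.2 hx hxo⟩
  have hf : Function.Injective f := fun β γ e => Subtype.ext (by
    have h1 : ((γ : Γ)⁻¹ * β) • x = x := by
      rw [mul_smul, show (β : Γ) • x = (γ : Γ) • x from congrArg Subtype.val e, inv_smul_smul]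
    have h2 : ((γ : Γ)⁻¹ * β) = 1 := by
      by_contra hne
      exact hxo (d.fixB_o (mul_mem (inv_mem γ.2) β.2) hne hx h1)
    exact (inv_mul_eq_one.1 h2).symm)
  have hcard : Nat.card B = Nat.card ({z : X | a • z = z} \ {o} : Set X) := by
    rw [d.cardB, Nat.card_coe_set_eq, Set.ncard_sdiff_singleton_of_mem (show o ∈ {z : X | a • z = z} from d.fixo a d.ha), d.five]
  obtain ⟨β, hβ⟩ := ((Nat.bijective_iff_injective_and_card f).2 ⟨hf, hcard⟩).2 ⟨y, hy, hyo⟩
  exact ⟨β, β.2, congrArg Subtype.val hβ⟩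

/-- An element fixing the base and centralising `B`, and centralising `a`, has order two at most. -/
theorem sq_of_cent {g : Γ} (hgo : g • o = o) (hgB : ∀ q ∈ B, Commute g q) (hga : Commute g a) : g * g = 1 := by
  obtain ⟨x, hx, hxo⟩ := d.exists_moved
  have hgx : g • x ≠ o := fun e => hxo (MulAction.injective g (e.trans hgo.symm))
  obtain ⟨β, hβ, hβx⟩ := d.regB hx hxo (d.fix_of_commute hga hx) hgx
  have hmem : β⁻¹ * g ∈ A := by
    refine d.ker _ ((d.comm a d.ha β hβ).symm.inv_left.mul_left hga) fun y hy => ?_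
    by_cases hyo : y = o
    · rw [hyo, mul_smul, hgo, inv_smul_eq_iff, d.fixoB hβ]
    obtain ⟨γ, hγ, rfl⟩ := d.regB hx hxo hy hyo
    have hβγ : β * γ = γ * β := by
      calc β * γ = (β * γ)⁻¹ := (inv_eq_of_mul_eq_one_right (d.B2 (mul_mem hβ hγ))).symm
        _ = γ * β := by rw [mul_inv_rev, inv_eq_of_mul_eq_one_right (d.B2 hβ), inv_eq_of_mul_eq_one_right (d.B2 hγ)]
    rw [mul_smul, smul_smul g γ, (hgB γ hγ).eq, mul_smul, ← hβx, smul_smul γ β, ← hβγ, mul_smul, inv_smul_smul]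
  have hg : g = β * (β⁻¹ * g) := (mul_inv_cancel_left β g).symm
  rw [hg, (d.comm _ hmem β hβ).mul_mul_mul_comm, d.A2 _ hmem, d.B2 hβ, one_mul]

end NineData

end Cfsg.Agent.Invol.ProperCore.TwistCase
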