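import Cfsg.Agent.Lib.Invol.ProperCore.TwistCaseNineCycle

/-!
# Two exchanged fours: the union of the two fixed point sets

The elements of order three centralising `A` fix the other fixed points of `B` and generate `B`; so the centraliser of
`a` preserves the nine points fixed by `a` or by its conjugate under `s`. Their stabiliser is faithful on them, two
times transitive and contains a three-cycle.
-/

set_option autoImplicit false
set_option linter.unusedSectionVars false

namespace Cfsg.Agent.Invol.ProperCore.TwistCase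

open Subgroup MulAction Core2

variable {Γ X : Type*} [Group Γ] [MulAction Γ X] [Finite Γ] [Finite X]

theorem sign_cube {α : Type*} [Fintype α] [DecidableEq α] {g : Equiv.Perm α} (h : g * g * g = 1) :
    Equiv.Perm.sign g = 1 := by
  have h1 := congrArg Equiv.Perm.sign h
  rw [map_mul, map_mul, map_one] at h1
  rcases Int.units_eq_one_or (Equiv.Perm.sign g) with e | e
  · exact e
  · rw [e] at h1; simp at h1

/-- The permutations induced by an element preserving a property. -/
def restrictHom (J : Subgroup Γ) (p : X → Prop) (h : ∀ g ∈ J, ∀ x : X, p (g • x) ↔ p x) :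
    ↥J →* Equiv.Perm {x : X // p x} where
  toFun g := (MulAction.toPerm (g : Γ)).subtypePerm fun x => h g g.2 x
  map_one' := Equiv.ext fun x => Subtype.ext (one_smul Γ (x : X))
  map_mul' g k := Equiv.ext fun x => Subtype.ext (mul_smul (g : Γ) (k : Γ) (x : X))

theorem restrictHom_apply {J : Subgroup Γ} {p : X → Prop} (h : ∀ g ∈ J, ∀ x : X, p (g • x) ↔ p x) (g : ↥J)
    (x : {x : X // p x}) : ((restrictHom J p h g x : {x : X // p x}) : X) = (g : Γ) • (x : X) := rfl

/-- The points fixed by `a` or by its conjugate. -/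
def union (a s : Γ) : Set X := {x | a • x = x ∨ a • (s • x) = s • x}

/-- The stabiliser of the union. -/
def stab (a s : Γ) : Subgroup Γ where
  carrier := {g | ∀ x : X, g • x ∈ union a s ↔ x ∈ (union a s : Set X)}
  one_mem' x := by rw [one_smul]
  mul_mem' {g h} hg hh x := by rw [mul_smul]; exact (hg _).trans (hh x)
  inv_mem' {g} hg x := by rw [← hg (g⁻¹ • x), smul_inv_smul]

namespace NineData

variable {L : Γ → Prop} {o : X} {A B : Subgroup Γ} {a s : Γ} (d : NineData L o A B a s)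

include d

theorem fixb_of_union {β : Γ} (hβ : β ∈ B) {y : X} (hy : a • (s • y) = s • y) : β • y = y := by
  by_cases h : β = 1
  · rw [h, one_smul]
  · exact (d.fixB_iff hβ h y).2 hy

theorem eq_o_of_both {y : X} (hy : a • y = y) (hy' : a • (s • y) = s • y) : y = o :=
  d.fixB_o d.b_mem (d.conj_s_ne d.a1) hy (d.fixb_of_union d.b_mem hy')

/-- The centraliser of `a` preserves the union. -/
theorem centralizer_union {c : Γ} (hc : Commute c a) {y : X} (hy : y ∈ (union a s : Set X)) :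
    c • y ∈ (union a s : Set X) := by
  classical
  rcases hy with hy | hy
  · exact Or.inl (d.fix_of_commute hc hy)
  by_cases hyo : y = o
  · exact Or.inl (d.fix_of_commute hc (by rw [hyo, d.fixo a d.ha]))
  obtain ⟨z, w, hsurj, -, -, hw3, hwo, hwA, hwfix, -, ⟨xm, hxm, hxm'⟩, v, hv3, hvA, hvo, hvfix⟩ := d.exists_cycle
  set Cn := centralizer ({a} : Set Γ)
  have hmem : ∀ g : ↥Cn, ∀ x : X, a • ((g : Γ) • x) = (g : Γ) • x ↔ a • x = x := fun g x =>
    ⟨fun h => by simpa using d.fix_of_commute (c := (g : Γ)⁻¹) (mem_centralizer_singleton_iff.1 (inv_mem g.2)) h,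
      fun h => d.fix_of_commute (mem_centralizer_singleton_iff.1 g.2) h⟩
  set ρ := restrictHom Cn (fun x : X => a • x = x) fun g hg x => hmem ⟨g, hg⟩ x
  haveI : Fintype {x : X // a • x = x} := Fintype.ofFinite _
  have h5 : Nat.card {x : X // a • x = x} = 5 := (Nat.card_coe_set_eq _).trans d.five
  have hBC : B ≤ Cn := fun q hq => mem_centralizer_singleton_iff.2 (d.comm a d.ha q hq).eq.symm
  set U := closure {g : ↥Cn | (g : Γ) = w ∨ (g : Γ) = v ∨ (g : Γ) ∈ B}
  have hU : ∀ g ∈ U, (∀ p ∈ A, Commute (g : Γ) p) ∧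
      ∀ x : X, a • (s • x) = s • x → x ≠ o → (g : Γ) • x = x := by
    intro g hg
    induction hg using closure_induction with
    | mem g hg =>
      rcases hg with e | e | e
      · exact ⟨e ▸ hwA, fun x hx _ => e ▸ hwfix x hx⟩
      · exact ⟨e ▸ hvA, e ▸ hvfix⟩
      · exact ⟨fun p hp => (d.comm p hp _ e).symm, fun x hx _ => d.fixb_of_union e hx⟩
    | one => exact ⟨fun p _ => Commute.one_left p, fun x _ _ => one_smul Γ x⟩
    | mul g k _ _ hg hk =>
      exact ⟨fun p hp => (hg.1 p hp).mul_left (hk.1 p hp),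
        fun x hx hxo => by rw [Subgroup.coe_mul, mul_smul, hk.2 x hx hxo, hg.2 x hx hxo]⟩
    | inv g _ hg =>
      exact ⟨fun p hp => (hg.1 p hp).inv_left,
        fun x hx hxo => by rw [Subgroup.coe_inv, inv_smul_eq_iff, hg.2 x hx hxo]⟩
  obtain ⟨W, hW⟩ : ∃ W : ↥Cn, (W : Γ) = w := ⟨⟨w, mem_centralizer_singleton_iff.2 (hwA a d.ha).eq⟩, rfl⟩
  obtain ⟨V, hV⟩ : ∃ V : ↥Cn, (V : Γ) = v := ⟨⟨v, mem_centralizer_singleton_iff.2 (hvA a d.ha).eq⟩, rfl⟩
  have hWU : W ∈ U := subset_closure (Or.inl hW)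
  have hVU : V ∈ U := subset_closure (Or.inr (Or.inl hV))
  have hcube : ∀ {g : ↥Cn}, (g : Γ) * g * g = 1 → ρ g * ρ g * ρ g = 1 := fun {g} h => by
    rw [← map_mul, ← map_mul, show g * g * g = 1 from Subtype.ext h, map_one]
  -- the image is the alternating group
  have hle : U.map ρ ≤ alternatingGroup {x : X // a • x = x} := by
    rw [map_le_iff_le_comap, closure_le]
    intro g hg
    rw [SetLike.mem_coe, mem_comap, Equiv.Perm.mem_alternatingGroup]
    rcases hg with e | e | e
    · exact sign_cube (hcube (by rw [e, hw3]))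
    · exact sign_cube (hcube (by rw [e, hv3]))
    · obtain ⟨γ, hγ, hγe⟩ := hsurj _ e
      rw [show g = W * ⟨γ, hBC hγ⟩ * W⁻¹ * (⟨γ, hBC hγ⟩ : ↥Cn)⁻¹ from Subtype.ext (by
        simp only [Subgroup.coe_mul, Subgroup.coe_inv, hW]; exact hγe.symm)]
      rw [map_mul, map_mul, map_mul, map_inv, map_inv, map_mul, map_mul, map_mul, map_inv, map_inv,
        mul_inv_cancel_comm, mul_inv_cancel]
  have h3 : 3 ∣ Nat.card (U.map ρ) := by
    haveI : Fact (Nat.Prime 3) := ⟨Nat.prime_three⟩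
    have ho : orderOf (ρ W) = 3 := by
      refine orderOf_eq_prime (by rw [pow_succ, pow_two]; exact hcube (by rw [hW, hw3])) fun e => hxm' ?_
      have h1 := congrArg Subtype.val (Equiv.ext_iff.1 e ⟨xm, hxm⟩)
      rwa [restrictHom_apply, hW] at h1
    exact ho ▸ (U.map ρ).orderOf_dvd_natCard (mem_map_of_mem _ hWU)
  have h4 : 4 ∣ Nat.card (U.map ρ) := by
    obtain ⟨x, hx, hxo⟩ := d.exists_moved
    have hinj : Function.Injective (ρ.comp (Subgroup.inclusion hBC)) := (injective_iff_map_eq_one _).2 fun q hq => by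
      refine Subtype.ext (by_contra fun hne => hxo (d.fixB_o q.2 hne hx ?_))
      exact congrArg Subtype.val (Equiv.ext_iff.1 hq ⟨x, hx⟩)
    rw [← d.cardB, Nat.card_congr (MonoidHom.ofInjective hinj).toEquiv]
    refine card_dvd_of_le ?_
    rintro _ ⟨q, rfl⟩
    exact mem_map_of_mem ρ (subset_closure (Or.inr (Or.inr q.2)))
  have h5' : 5 ∣ Nat.card (U.map ρ) := by
    obtain ⟨p0, hp0⟩ : ∃ p0 : {x : X // a • x = x}, (p0 : X) = o := ⟨⟨o, d.fixo a d.ha⟩, rfl⟩
    have htr : ∀ x, ∃ g ∈ U.map ρ, g p0 = x := by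
      intro x
      by_cases hx : (x : X) = o
      · exact ⟨1, one_mem _, Subtype.ext (by rw [Equiv.Perm.one_apply, hp0, hx])⟩
      obtain ⟨q, hq, hqx⟩ := d.regB (d.fix_of_commute (hvA a d.ha) (d.fixo a d.ha)) hvo x.2 hx
      refine ⟨ρ (⟨q, hBC hq⟩ * V), mem_map_of_mem _ (mul_mem (subset_closure (Or.inr (Or.inr hq))) hVU),
        Subtype.ext ?_⟩
      rw [restrictHom_apply, hp0, Subgroup.coe_mul, mul_smul, hV]
      exact hqx
    haveI : MulAction.IsPretransitive ↥(U.map ρ) {x : X // a • x = x} := ⟨fun x y => by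
      obtain ⟨g, hg, rfl⟩ := htr x
      obtain ⟨k, hk, rfl⟩ := htr y
      refine ⟨⟨k * g⁻¹, mul_mem hk (inv_mem hg)⟩, ?_⟩
      show (k * g⁻¹) (g p0) = k p0
      simp⟩
    rw [← h5, ← MulAction.index_stabilizer_of_transitive ↥(U.map ρ) p0]
    exact Subgroup.index_dvd_card _
  have heq : U.map ρ = alternatingGroup {x : X // a • x = x} := by
    refine eq_of_le_of_card_ge hle ?_
    haveI : Nontrivial {x : X // a • x = x} := Finite.one_lt_card_iff_nontrivial.1 (by omega)
    have hA := two_mul_nat_card_alternatingGroup (α := {x : X // a • x = x})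
    rw [Nat.card_perm, h5, show Nat.factorial 5 = 120 from rfl] at hA
    have h60 : 60 ∣ Nat.card (U.map ρ) :=
      (Nat.Coprime.mul_dvd_of_dvd_of_dvd (show Nat.Coprime (3 * 4) 5 by norm_num)
        (Nat.Coprime.mul_dvd_of_dvd_of_dvd (show Nat.Coprime 3 4 by norm_num) h3 h4) h5' : 3 * 4 * 5 ∣ _)
    have := Nat.le_of_dvd Nat.card_pos h60
    omega
  -- elements of order three centralising `A` fix the other fixed points of `B`
  have hO : ∀ g : Γ, (∀ p ∈ A, Commute g p) → g * g * g = 1 → g • y = y := by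
    intro g hgA hg3
    obtain ⟨G, rfl⟩ : ∃ G : ↥Cn, (G : Γ) = g := ⟨⟨g, mem_centralizer_singleton_iff.2 (hgA a d.ha).eq⟩, rfl⟩
    have hmemρ : ρ G ∈ U.map ρ := heq ▸ Equiv.Perm.mem_alternatingGroup.2 (sign_cube (hcube hg3))
    obtain ⟨e, he, hee⟩ := hmemρ
    obtain ⟨heA, hefix⟩ := hU e he
    have hα : (G : Γ) * (e : Γ)⁻¹ ∈ A := by
      refine d.kerA d.ha d.a1 ((hgA a d.ha).mul_left (heA a d.ha).inv_left) fun x hx => ?_
      have h1 : (e : Γ) • ((e : Γ)⁻¹ • x) = x := smul_inv_smul _ x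
      have h2 := congrArg Subtype.val
        (Equiv.ext_iff.1 hee ⟨(e : Γ)⁻¹ • x, d.fix_of_commute (heA a d.ha).inv_left hx⟩)
      rw [restrictHom_apply, restrictHom_apply] at h2
      rw [mul_smul, ← h2, h1]
    obtain ⟨α, hαdef⟩ : ∃ α, α = (G : Γ) * (e : Γ)⁻¹ := ⟨_, rfl⟩
    rw [← hαdef] at hα
    have hG : (G : Γ) = α * e := by rw [hαdef, inv_mul_cancel_right]
    have hc' : Commute (e : Γ) α := heA α hα
    have h7 : α * ((e : Γ) * e * e) = 1 := by
      have hp : ((α * e : Γ)) ^ 3 = 1 := by rw [pow_succ, pow_two, ← hG]; exact hg3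
      rw [hc'.symm.mul_pow, pow_succ, pow_two, d.A2 α hα, one_mul, pow_succ, pow_two] at hp
      exact hp
    have hey : ((e : Γ) * e * e) • y = y := by
      rw [mul_smul, mul_smul, hefix y hy hyo, hefix y hy hyo, hefix y hy hyo]
    have hα1 : α = 1 := by
      by_contra hne
      refine hyo (d.eq_o_of_both ((d.fixA_iff hα hne y).1 ?_) hy)
      calc α • y = α • (((e : Γ) * e * e) • y) := by rw [hey]
        _ = y := by rw [smul_smul, h7, one_smul]
    rw [hG, hα1, one_mul, hefix y hy hyo]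
  -- so `b` fixes the image
  have hfix : ∀ g : Γ, (∀ p ∈ A, Commute g p) → g * g * g = 1 → g • (c • y) = c • y := by
    intro g hgA hg3
    have h1 := hO (c⁻¹ * g * c) (fun p hp => ?_) (by
      rw [show c⁻¹ * g * c * (c⁻¹ * g * c) * (c⁻¹ * g * c) = c⁻¹ * (g * g * g) * c by group, hg3, mul_one,
        inv_mul_cancel])
    · rw [mul_smul, mul_smul, inv_smul_eq_iff] at h1
      exact h1
    · have h2 := (hgA _ (d.norm_of_commute hc hp)).map (MulAut.conj c⁻¹).toMonoidHom
      simpa [mul_assoc] using h2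
  obtain ⟨γ, hγ, hγe⟩ := hsurj _ d.b_mem
  refine Or.inr ((d.fixB_iff d.b_mem (d.conj_s_ne d.a1) _).1 ?_)
  have h8 : (γ * w⁻¹ * γ⁻¹) • (c • y) = c • y := by
    refine hfix _ (fun p hp => ((d.comm p hp γ hγ).symm.mul_left (hwA p hp).inv_left).mul_left
      (d.comm p hp γ hγ).symm.inv_left) ?_
    rw [show γ * w⁻¹ * γ⁻¹ * (γ * w⁻¹ * γ⁻¹) * (γ * w⁻¹ * γ⁻¹) = γ * (w * w * w)⁻¹ * γ⁻¹ by group, hw3, inv_one,
      mul_one, mul_inv_cancel]
  rw [← hγe, show w * γ * w⁻¹ * γ⁻¹ = w * (γ * w⁻¹ * γ⁻¹) by group, mul_smul, h8, hfix w hwA hw3]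

theorem centralizer_le_stab {c : Γ} (hc : Commute c a) : c ∈ stab (X := X) a s := fun x =>
  ⟨fun h => by simpa using d.centralizer_union hc.inv_left h, d.centralizer_union hc⟩

theorem s_mem_stab : s ∈ stab (X := X) a s := fun x => by
  show a • s • x = s • x ∨ a • (s • s • x) = s • s • x ↔ _
  rw [d.smul_ss]
  exact or_comm

theorem A_le_stab {x : Γ} (hx : x ∈ A) : x ∈ stab (X := X) a s := d.centralizer_le_stab (d.commA hx d.ha)

theorem B_le_stab {x : Γ} (hx : x ∈ B) : x ∈ stab (X := X) a s :=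
  d.centralizer_le_stab (d.comm a d.ha x hx).symm

/-- Nine points. -/
theorem card_union : (union a s : Set X).ncard = 9 := by
  have h1 : (union a s : Set X) = {x | a • x = x} ∪ (s • ·) '' {x | a • x = x} := by
    ext x
    refine or_congr Iff.rfl ⟨fun h => ⟨s • x, h, d.smul_ss x⟩, ?_⟩
    rintro ⟨y, hy, rfl⟩
    rw [d.smul_ss]
    exact hy
  have h2 : {x | a • x = x} ∩ (s • ·) '' {x | a • x = x} = ({o} : Set X) := by
    ext x
    refine ⟨?_, ?_⟩
    · rintro ⟨hx, y, hy, rfl⟩
      exact d.eq_o_of_both hx (by rw [d.smul_ss]; exact hy)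
    · rintro rfl
      exact ⟨d.fixo a d.ha, _, d.fixo a d.ha, d.so⟩
  have h3 := Set.ncard_union_add_ncard_inter {x | a • x = x} ((s • ·) '' {x : X | a • x = x})
  rw [h2, ← h1, Set.ncard_singleton, Set.ncard_image_of_injective _ (MulAction.injective s), d.five] at h3
  omega

/-- A root fixing the union pointwise is trivial. -/
theorem eq_one_of_fix_union {α g : Γ} (hα : α ∈ A) (hα1 : α ≠ 1) (hg : Commute g α)
    (hfix : ∀ y ∈ (union a s : Set X), g • y = y) : g = 1 := by
  by_contra hne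
  have h := d.kerA hα hα1 hg fun y hy => hfix y (Or.inl hy)
  obtain ⟨x, hx, hxo⟩ := d.exists_moved
  have hy : a • (s • s • x) = s • s • x := by rw [d.smul_ss]; exact hx
  exact hxo (MulAction.injective s ((d.eq_o_of_both ((d.fixA_iff h hne _).1 (hfix _ (Or.inr hy))) hy).trans d.so.symm))

/-- The stabiliser of the union is faithful on it. -/
theorem faithful {g : Γ} (hfix : ∀ y ∈ (union a s : Set X), g • y = y) : g = 1 := by
  obtain ⟨a', ha', h1, hne⟩ := d.exists_a'
  have h2 : a * a' ≠ 1 := fun e => hne (by rw [← inv_eq_of_mul_eq_one_right e, d.inv_mem' d.ha])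
  let N : Subgroup Γ :=
    { carrier := {k | ∀ y ∈ (union a s : Set X), k • y = y}
      one_mem' := fun y _ => one_smul Γ y
      mul_mem' := fun {k l} hk hl y hy => by rw [mul_smul, hl y hy, hk y hy]
      inv_mem' := fun {k} hk y hy => by rw [inv_smul_eq_iff, hk y hy] }
  have hinv : ∀ α ∈ A, α ≠ 1 → ∀ k ∈ N, α * k * α⁻¹ = k⁻¹ := by
    intro α hα hα1
    have hn : ∀ k ∈ N, α * k * α⁻¹ ∈ N := fun k hk y hy => by
      rw [mul_smul, mul_smul, hk _ (((stab a s).inv_mem (d.A_le_stab hα) y).2 hy), smul_inv_smul]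
    let φ : ↥N →* ↥N :=
      { toFun := fun k => ⟨α * k * α⁻¹, hn k k.2⟩
        map_one' := Subtype.ext (by simp)
        map_mul' := fun k l => Subtype.ext (by simp [mul_assoc]) }
    have hφ2 : Function.Involutive φ := fun k => Subtype.ext (by
      show α * (α * k * α⁻¹) * α⁻¹ = k
      rw [show α * (α * (k : Γ) * α⁻¹) * α⁻¹ = α * α * k * (α * α)⁻¹ by group, d.A2 α hα, one_mul, inv_one, mul_one])
    have hφfix : MonoidHom.FixedPointFree φ := fun k hk => Subtype.ext (d.eq_one_of_fix_union hα hα1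
      (show Commute (k : Γ) α from (mul_inv_eq_iff_eq_mul.1 (congrArg Subtype.val hk)).symm) k.2)
    exact fun k hk => congrArg Subtype.val (congrFun (hφfix.coe_eq_inv_of_involutive hφ2) ⟨k, hk⟩)
  refine d.eq_one_of_fix_union (mul_mem d.ha ha') h2 (mul_inv_eq_iff_eq_mul.1 ?_).symm hfix
  calc a * a' * g * (a * a')⁻¹ = a * (a' * g * a'⁻¹) * a⁻¹ := by group
    _ = g := by rw [hinv a' ha' h1 g hfix, hinv a d.ha d.a1 g⁻¹ (inv_mem (show g ∈ N from hfix)), inv_inv]

/-- The stabiliser moves every point of the union to the base. -/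
theorem exists_to_base {y : X} (hy : y ∈ (union a s : Set X)) : ∃ g ∈ stab (X := X) a s, g • y = o := by
  obtain ⟨z, w, -, -, -, -, -, -, -, -, -, v, -, hvA, hvo, -⟩ := d.exists_cycle
  have key : ∀ {y : X}, a • y = y → ∃ g ∈ stab (X := X) a s, g • y = o := fun {y} hy => by
    by_cases h : y = o
    · exact ⟨1, one_mem _, by rw [h, one_smul]⟩
    obtain ⟨q, hq, rfl⟩ := d.regB (d.fix_of_commute (hvA a d.ha) (d.fixo a d.ha)) hvo hy h
    exact ⟨(q * v)⁻¹, inv_mem (mul_mem (d.B_le_stab hq) (d.centralizer_le_stab (hvA a d.ha))),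
      by rw [inv_smul_eq_iff, mul_smul]⟩
  rcases hy with hy | hy
  · exact key hy
  · obtain ⟨g, hg, e⟩ := key hy
    exact ⟨g * s, mul_mem hg d.s_mem_stab, by rw [mul_smul, e]⟩

/-- The stabiliser of the base is transitive on the other eight. -/
theorem exists_to_point {p y : X} (hp : a • p = p) (hpo : p ≠ o) (hy : y ∈ (union a s : Set X)) (hyo : y ≠ o) :
    ∃ g ∈ stab (X := X) a s, g • o = o ∧ g • y = p := by
  rcases hy with hy | hy
  · obtain ⟨q, hq, e⟩ := d.regB hy hyo hp hpo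
    exact ⟨q, d.B_le_stab hq, d.fixoB hq, e⟩
  · obtain ⟨q, hq, e⟩ := d.regB hy (fun e => hyo (MulAction.injective s (e.trans d.so.symm))) hp hpo
    exact ⟨q * s, mul_mem (d.B_le_stab hq) d.s_mem_stab, by rw [mul_smul, d.so, d.fixoB hq], by rw [mul_smul, e]⟩

end NineData

end Cfsg.Agent.Invol.ProperCore.TwistCase
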