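import Cfsg.Agent.Lib.Invol.ProperCore.Basic
import Cfsg.Agent.Lib.Invol.Core2.TwistFullHolds

/-!
# One central involution in a simple group: fusion and the local fact

In a simple group the central involution `u` is fused in a Sylow subgroup by Glauberman's theorem, so the full local
facts hold: `M` fuses every involution of the Sylow subgroup to `u`, and the odd cores are balanced.
-/

set_option autoImplicit false
set_option linter.unusedSectionVars false
set_option linter.style.haveILetI false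

namespace Cfsg.Agent.Invol.ProperCore

open Subgroup Cfsg.Agent.Invol.Core2

universe u

variable {G : Type u} [Group G] [Finite G] [IsSimpleGroup G] {M W : Subgroup G} {S : Sylow 2 G} {z : G}

/-- The central involution is conjugate to another involution of the Sylow subgroup. -/
theorem exists_fused_simple (hna : ¬ IsMulCommutative G) (c : TwistPre M W S z) :
    ∃ x ∈ (S : Subgroup G), x ≠ z ∧ IsConj z x := by
  haveI : Fact (Nat.Prime 2) := ⟨Nat.prime_two⟩
  obtain ⟨g, hg, hne⟩ : ∃ g : G, Commute z (g * z * g⁻¹) ∧ g * z * g⁻¹ ≠ z := by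
    by_contra hcon
    push Not at hcon
    obtain ⟨N, hNn, hNo, hN⟩ := Cfsg.Agent.ZStar.exists_odd_normal (t := z) ⟨c.two_u, hcon⟩
    have hN1 : N = ⊥ := hNn.eq_bot_or_eq_top.resolve_right fun e => by
      obtain ⟨k, hk⟩ := hNo
      obtain ⟨j, hj⟩ := even_card hna
      rw [e, card_top] at hk
      omega
    refine no_central_involution hna c.two_u fun x => ?_
    have h1 := hN x
    rw [hN1, mem_bot, mul_inv_eq_one, mul_inv_eq_iff_eq_mul] at h1
    exact (show Commute z x from h1).symm
  obtain ⟨k, hk⟩ := exists_conj_mem_sylow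
    (x := (⟨g * z * g⁻¹, mem_centralizer_singleton_iff.2 hg.symm.eq⟩ : ↥(centralizer ({z} : Set G)))) (p := 2)
    (n := 1) (by rw [← Subgroup.orderOf_coe, pow_one]; show orderOf (g * z * g⁻¹) = 2; rw [orderOf_conj_eq, c.two_u])
    (S.subtype c.le_cent)
  have hku : Commute (k : G) z := mem_centralizer_singleton_iff.1 k.2
  refine ⟨(k : G) * (g * z * g⁻¹) * (k : G)⁻¹, hk, fun e => hne ?_, isConj_iff.2 ⟨(k : G) * g, by group⟩⟩
  calc g * z * g⁻¹ = (k : G)⁻¹ * ((k : G) * (g * z * g⁻¹) * (k : G)⁻¹) * k := by group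
    _ = z := by rw [e, mul_assoc, ← hku.eq, inv_mul_cancel_left]

/-- The full local facts. -/
theorem twist_full (hna : ¬ IsMulCommutative G) (c : TwistPre M W S z) :
    ClassOne (hBar M z) (uBar z) ∧ ∀ y ∈ hBar M z, orderOf y = 2 → y ≠ uBar z → LocAt (hBar M z) y :=
  twistFull_holds G M W S z c (exists_fused_simple hna c)

/-- The involutions of `M` commuting with `z`, other than `z`, are conjugate under `C(z) ∩ M`. -/
theorem class_one (hna : ¬ IsMulCommutative G) (c : TwistPre M W S z) {a b : G} (haM : a ∈ M) (ha2 : orderOf a = 2)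
    (haz : Commute a z) (hane : a ≠ z) (hbM : b ∈ M) (hb2 : orderOf b = 2) (hbz : Commute b z) (hbne : b ≠ z) :
    ∃ k ∈ M, Commute k z ∧ k * b * k⁻¹ = a := by
  let a' : ↥(centralizer ({z} : Set G)) := ⟨a, mem_centralizer_singleton_iff.2 haz.eq⟩
  let b' : ↥(centralizer ({z} : Set G)) := ⟨b, mem_centralizer_singleton_iff.2 hbz.eq⟩
  obtain ⟨d, hd, e⟩ := (twist_full hna c).1 _ (mem_map_of_mem _ (show a' ∈ M.subgroupOf _ from haM))
    (c.bar_ne (a := a') ha2 hane).1 (c.bar_ne (a := a') ha2 hane).2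
    _ (mem_map_of_mem _ (show b' ∈ M.subgroupOf _ from hbM))
    (c.bar_ne (a := b') hb2 hbne).1 (c.bar_ne (a := b') hb2 hbne).2
  obtain ⟨k, hk, hk'⟩ := c.exists_conj_of_bar (a := a') (b := b') ha2 hb2 haM hbM hd e
  exact ⟨k, hk, mem_centralizer_singleton_iff.1 k.2, congrArg Subtype.val hk'⟩

/-- `M` fuses every involution of the Sylow subgroup to `z`. -/
theorem m_fused (hna : ¬ IsMulCommutative G) (c : TwistPre M W S z) {a : G} (ha : a ∈ (S : Subgroup G))
    (ha2 : orderOf a = 2) : ∃ m ∈ M, m * z * m⁻¹ = a := by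
  by_cases haz : a = z
  · exact ⟨1, one_mem _, by rw [haz, one_mul, inv_one, mul_one]⟩
  obtain ⟨x, hx, hxz, hxc⟩ := exists_fused_simple hna c
  have hx2 : orderOf x = 2 := by
    obtain ⟨g, hg⟩ := isConj_iff.1 hxc
    rw [← hg, orderOf_conj_eq, c.two_u]
  obtain ⟨k, hk, -, hka⟩ := class_one hna c (c.le ha) ha2 (c.cent a ha) haz (c.le hx) hx2 (c.cent x hx) hxz
  obtain ⟨m, hm, hmx⟩ := c.exists_move (c.le hx) (c.cent x hx) hxz hxc
  exact ⟨k * m⁻¹, mul_mem hk (inv_mem hm), by rw [← hka, ← hmx]; group⟩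

/-- Balance of the odd cores at commuting involutions of the Sylow subgroup. -/
theorem balance_sylow (hna : ¬ IsMulCommutative G) (c : TwistPre M W S z) {a b : G} (ha : a ∈ (S : Subgroup G))
    (ha2 : orderOf a = 2) (hb : b ∈ (S : Subgroup G)) (hb2 : orderOf b = 2) (hab : Commute a b) :
    coreC a ⊓ centralizer ({b} : Set G) ≤ coreC b :=
  balance_of_local c.ax c.le c.mem c.two_u (fun _ h1 h2 => m_fused hna c h1 h2)
    (fun y hy hy2 hyz hyne _ h1 h2 h3 h4 => c.le_coreC (y := ⟨y, mem_centralizer_singleton_iff.2 hyz.eq⟩) hy2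
      ((twist_full hna c).2 _ (mem_map_of_mem _
        (show (⟨y, mem_centralizer_singleton_iff.2 hyz.eq⟩ : ↥(centralizer ({z} : Set G))) ∈ M.subgroupOf _ from hy))
        (c.bar_ne (a := ⟨y, mem_centralizer_singleton_iff.2 hyz.eq⟩) hy2 hyne).1
        (c.bar_ne (a := ⟨y, mem_centralizer_singleton_iff.2 hyz.eq⟩) hy2 hyne).2) h1 h2 h3 h4)
    ha ha2 hb hb2 hab

/-- The group is balanced. -/
theorem balanced (hna : ¬ IsMulCommutative G) (c : TwistPre M W S z) : Cfsg.IsBalanced G := by
  haveI : Fact (Nat.Prime 2) := ⟨Nat.prime_two⟩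
  have key : ∀ x y : G, orderOf x = 2 → orderOf y = 2 → Commute x y →
      coreC x ⊓ centralizer ({y} : Set G) ≤ coreC y := by
    intro x y hx hy hxy
    by_cases hne : x = y
    · subst hne; exact inf_le_left
    obtain ⟨g, hg⟩ := exists_conj_subset_sylow (isPGroup_closure_pair hx hy (a := 1) (by
      rw [pow_one]; exact orderOf_two_mul hx hy hne hxy)) S
    have hgx := hg x (subset_closure (Or.inl rfl))
    have hgy := hg y (subset_closure (Or.inr rfl))
    have h1 := balance_sylow hna c hgx (by rw [orderOf_conj_eq, hx]) hgy (by rw [orderOf_conj_eq, hy])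
      (commute_conj hxy)
    intro w hw
    have h2 : g * w * g⁻¹ ∈ coreC (g * y * g⁻¹) := h1 ⟨CoreConsumers.map_conj_core_le x g ⟨w, hw.1, rfl⟩,
      mem_centralizer_singleton_iff.2 (commute_conj (show Commute w y from mem_centralizer_singleton_iff.1 hw.2)).eq⟩
    have h3 := CoreConsumers.map_conj_core_le (g * y * g⁻¹) g⁻¹ ⟨_, h2, rfl⟩
    simpa [mul_assoc] using h3
  intro x y hx hy hxy
  exact le_antisymm
    (le_inf (key x y hx hy hxy) fun w hw =>
      mem_centralizer_singleton_iff.2 (Grp.centralizerPPrimeCore_commute hw.1))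
    (le_inf (key y x hy hx hxy.symm) fun w hw =>
      mem_centralizer_singleton_iff.2 (Grp.centralizerPPrimeCore_commute hw.1))

end Cfsg.Agent.Invol.ProperCore
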